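import Groth.Agent.Lib.AbMul.Etale
import Groth.Agent.Lib.RegLoc.Basic
import Groth.Agent.Lib.FibreFlat.RegularFlat
import Groth.Agent.Lib.FibreFlat.OpenScheme
import Groth.Agent.Lib.GrpSchField.GrpDim
import Groth.Agent.Lib.GrpSchField.SmoothRegular
import Groth.Agent.Lib.DiagGrp.KernelFP

/-!
# Multiplication by an invertible integer on a smooth commutative group scheme is étale

No properness or connectedness is assumed.
-/

universe u

open CategoryTheory Limits AlgebraicGeometry IsLocalRing RingTheory.Sequence
open MonoidalCategory CartesianMonoidalCategory MonObj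

namespace GrothLib.AbMul

/-- An unramified map of regular local rings of the same dimension is flat. -/
theorem flat_of_regular_of_map_maximalIdeal {R L : Type u} [CommRing R] [CommRing L]
    [IsRegularLocalRing R] [IsRegularLocalRing L] [Algebra R L]
    (hdim : ringKrullDim L = ringKrullDim R)
    (hmap : (maximalIdeal R).map (algebraMap R L) = maximalIdeal L) : Module.Flat R L := by
  set d := (maximalIdeal R).spanFinrank with hd
  have hL : (maximalIdeal L).spanFinrank = d := by
    have h1 := IsRegularLocalRing.spanFinrank_maximalIdeal (R := L)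
    rw [hdim, ← IsRegularLocalRing.spanFinrank_maximalIdeal (R := R)] at h1
    exact_mod_cast h1
  obtain ⟨s, hs, hspan⟩ : ∃ s : Finset R, s.card = d ∧ Ideal.span (s : Set R) = maximalIdeal R := by
    have hfg : (maximalIdeal R).FG := IsNoetherian.noetherian _
    refine ⟨(Submodule.FG.finite_generators hfg).toFinset, ?_, ?_⟩
    · rw [← Set.ncard_eq_toFinset_card _ (Submodule.FG.finite_generators hfg)]
      exact Submodule.FG.generators_ncard hfg
    · rw [Set.Finite.coe_toFinset]
      exact Submodule.span_generators _
  obtain ⟨x, hx⟩ : ∃ x : Fin d → R, Ideal.span (Set.range x) = maximalIdeal R := by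
    refine ⟨fun i => ((s.equivFin.trans (finCongr hs)).symm i : R), ?_⟩
    rw [← hspan]
    congr 1
    ext r
    constructor
    · rintro ⟨i, rfl⟩; exact ((s.equivFin.trans (finCongr hs)).symm i).2
    · intro hr; exact ⟨(s.equivFin.trans (finCongr hs)) ⟨r, hr⟩, by simp⟩
  refine GrothLib.FibreFlat.flat_of_weaklyRegular (List.ofFn x)
    (GrothLib.RegLoc.isWeaklyRegular_ofFn d R hd.symm x hx) ?_ ?_ ?_
  · have h2 := GrothLib.RegLoc.isWeaklyRegular_ofFn d L hL (fun i => algebraMap R L (x i)) (by
      rw [← hmap, ← hx, Ideal.map_span, ← Set.range_comp]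
      rfl)
    rw [← isWeaklyRegular_map_algebraMap_iff L L, List.map_ofFn]
    exact h2
  · intro t ht
    obtain ⟨i, rfl⟩ := List.mem_ofFn.mp ht
    exact hmap ▸ Ideal.mem_map_of_mem _ (hx ▸ Ideal.subset_span ⟨i, rfl⟩)
  · have e : Ideal.ofList (List.ofFn x) = maximalIdeal R := by
      rw [← hx, Ideal.ofList]
      congr 1
      ext r
      simp [List.mem_ofFn]
    rw [e]
    exact (Ideal.Quotient.maximal_ideal_iff_isField_quotient _).mp inferInstance

/-- Over a field: the `n`-th power map of a smooth commutative group is étale when `n` is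
invertible. -/
theorem etale_pow_field {K : Type u} [Field K] (G : Over (Spec (CommRingCat.of K))) [GrpObj G]
    [IsCommMonObj G] [Smooth G.hom] (n : ℤ) (hn : (n : K) ≠ 0) : Etale (𝟙 G ^ n).left := by
  set f := (𝟙 G ^ n).left
  haveI hu : FormallyUnramified f := formallyUnramified_pow n hn
  haveI : LocallyOfFinitePresentation (f ≫ G.hom) := by rw [Over.w]; infer_instance
  haveI : LocallyOfFinitePresentation f :=
    GrothLib.DiagGrp.lfp_of_comp_of_lft f G.hom inferInstance inferInstance
  haveI : JacobsonSpace G.left := LocallyOfFiniteType.jacobsonSpace G.hom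
  haveI : Flat f := by
    refine (Flat.iff_flat_stalkMap f).mpr fun x => ?_
    by_contra hx
    obtain ⟨y, hy, hyc⟩ := nonempty_inter_closedPoints (⟨x, hx⟩ : {x | (f.stalkMap x).hom.Flat}ᶜ.Nonempty)
      (GrothLib.FibreFlat.isOpen_flat_stalkMap f).isClosed_compl.isLocallyClosed
    refine hy ?_
    have hfy : f y ∈ closedPoints G.left := f.closePoints_subset_preimage_closedPoints hyc
    rw [mem_closedPoints_iff] at hyc hfy
    haveI := GrothLib.GrpSchField.isRegularLocalRing_stalk_of_smooth G.hom hyc
    haveI := GrothLib.GrpSchField.isRegularLocalRing_stalk_of_smooth G.hom hfy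
    let _ : Algebra (G.left.presheaf.stalk (f y)) (G.left.presheaf.stalk y) := (f.stalkMap y).hom.toAlgebra
    haveI : IsLocalHom (algebraMap (G.left.presheaf.stalk (f y)) (G.left.presheaf.stalk y)) :=
      f.toLRSHom.prop y
    haveI : Algebra.FormallyUnramified (G.left.presheaf.stalk (f y)) (G.left.presheaf.stalk y) :=
      FormallyUnramified.stalkMap f y
    haveI : Algebra.EssFiniteType (G.left.presheaf.stalk (f y)) (G.left.presheaf.stalk y) :=
      LocallyOfFiniteType.stalkMap f y
    exact flat_of_regular_of_map_maximalIdeal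
      (by rw [GrothLib.GrpSchField.ringKrullDim_stalk_eq G hyc, GrothLib.GrpSchField.ringKrullDim_stalk_eq G hfy])
      Algebra.FormallyUnramified.map_maximalIdeal
  exact Etale.of_formallyUnramified_of_flat f

/-- The `n`-th power map of a smooth commutative group scheme is étale when `n` is invertible. -/
theorem etale_pow_relative {S : Scheme.{u}} (X : Over S) [GrpObj X] [IsCommMonObj X]
    [Smooth X.hom] (n : ℤ) (hn : IsUnit (n : Γ(S, ⊤))) : Etale (𝟙 X ^ n).left := by
  set f := 𝟙 X ^ n
  haveI : LocallyOfFinitePresentation (f.left ≫ X.hom) := by rw [Over.w]; infer_instance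
  haveI : Flat (f.left ≫ X.hom) := by rw [Over.w]; infer_instance
  refine GrothLib.FibreFlat.etale_of_fibrewise f.left X.hom fun s => ?_
  let jj : Spec (CommRingCat.of (S.residueField s)) ⟶ S := S.fromSpecResidueField s
  let P := Over.pullback jj
  let A' : Over (Spec (CommRingCat.of (S.residueField s))) := P.obj X
  let _ : GrpObj A' := Functor.grpObjObj
  haveI : IsCommMonObj A' := Functor.isCommMonObj_obj
  haveI : Smooth A'.hom := inferInstanceAs (Smooth (pullback.snd X.hom jj))
  have hn' : ((n : ℤ) : S.residueField s) ≠ 0 := by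
    have h := hn.map ((S.presheaf.germ ⊤ s trivial).hom)
    have h' := h.map (IsLocalRing.residue (S.presheaf.stalk s))
    rw [map_intCast, map_intCast] at h'
    exact h'.ne_zero
  have het := etale_pow_field A' n hn'
  have hF : (P.map f : A' ⟶ A') = 𝟙 A' ^ n := by
    rw [← P.map_id X]
    exact map_zpow (P.homMonoidHom (X := X) (M := X)) (𝟙 X) n
  let F : A' ⟶ A' := P.map f
  have sq : IsPullback (pullback.fst X.hom jj) F.left f.left (pullback.fst X.hom jj) := by
    refine IsPullback.of_bot ?_ ?_ (IsPullback.of_hasPullback X.hom jj)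
    · have : F.left ≫ pullback.snd X.hom jj = pullback.snd X.hom jj := Over.w F
      rw [this, Over.w]
      exact IsPullback.of_hasPullback X.hom jj
    · exact (pullback.lift_fst _ _ _).symm
  have e : pullback.snd f.left (X.hom.fiberι s) = sq.isoPullback.inv ≫ F.left :=
    (sq.isoPullback_inv_snd).symm
  have het' : Etale F.left := by
    rw [show F.left = (𝟙 A' ^ n).left from congrArg Over.Hom.left hF]; exact het
  rw [e]
  exact (MorphismProperty.cancel_left_of_respectsIso @Etale sq.isoPullback.inv _).mpr het'

end GrothLib.AbMul
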