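import Groth.Agent.Lib.AbMul.Etale
import Groth.Agent.Lib.GrpSchField.GrpDim
import Groth.Agent.Lib.GrpSchField.SmoothRegular

/-!
# Homomorphisms from smooth one-dimensional groups: zero or injective on tangent vectors

A homomorphism out of a smooth one-dimensional group scheme over a field is either unramified or
kills every tangent vector at the unit.
-/

universe u

open CategoryTheory Limits AlgebraicGeometry IsLocalRing
open MonoidalCategory CartesianMonoidalCategory MonObj

namespace GrothLib.AbMul

variable {K : Type u} [Field K]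

instance isLocalRing_trivSqZeroExt (L : Type u) [Field L] (M : Type u) [AddCommGroup M] [Module L M]
    [Module Lᵐᵒᵖ M] [IsCentralScalar L M] : IsLocalRing (TrivSqZeroExt L M) := by
  refine IsLocalRing.of_isUnit_or_isUnit_one_sub_self fun a => ?_
  simp only [TrivSqZeroExt.isUnit_iff_isUnit_fst, TrivSqZeroExt.fst_sub, TrivSqZeroExt.fst_one]
  exact IsLocalRing.isUnit_or_isUnit_one_sub_self a.fst

/-- The structure map from the base field to a local ring. -/
noncomputable def stalkBase {X : Scheme.{u}} (f : X ⟶ Spec (CommRingCat.of K)) (x : X) :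
    CommRingCat.of K ⟶ X.presheaf.stalk x :=
  Spec.preimage (X.fromSpecStalk x ≫ f)

theorem exists_local_lift {X : Scheme.{u}} {A : CommRingCat.{u}} [IsLocalRing A] (c : Spec A ⟶ X)
    {x : X} (hx : c (closedPoint A) = x) :
    ∃ h : X.presheaf.stalk x ⟶ A, IsLocalHom h.hom ∧ Spec.map h ≫ X.fromSpecStalk x = c := by
  subst hx
  exact ⟨Scheme.stalkClosedPointTo c, inferInstance, Scheme.Spec_stalkClosedPointTo_fromSpecStalk c⟩

/-- At a rational point every germ is a scalar plus a non-unit. -/
theorem exists_scalar_sub_mem {X : Scheme.{u}} (f : X ⟶ Spec (CommRingCat.of K))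
    (s : Spec (CommRingCat.of K) ⟶ X) (hs : s ≫ f = 𝟙 _) (a : X.presheaf.stalk (s (closedPoint K))) :
    ∃ r : K, a - stalkBase f _ r ∈ maximalIdeal (X.presheaf.stalk (s (closedPoint K))) := by
  let h := Scheme.stalkClosedPointTo s
  have hh : stalkBase f _ ≫ h = 𝟙 _ := Spec.map_injective (by
    rw [Spec.map_comp, Spec.map_id, stalkBase, Spec.map_preimage, ← Category.assoc,
      Scheme.Spec_stalkClosedPointTo_fromSpecStalk, hs])
  refine ⟨h a, fun hu => ?_⟩
  have h0 : h (a - stalkBase f _ (h a)) = 0 := by
    rw [map_sub, ← CommRingCat.comp_apply, hh, CommRingCat.id_apply, sub_self]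
  exact not_isUnit_zero (h0 ▸ hu.map h.hom)

/-- The unit point. -/
noncomputable abbrev unitPt (G : Over (Spec (CommRingCat.of K))) [GrpObj G] : G.left :=
  (η[G]).left (closedPoint K)

theorem exists_scalar_sub_mem_unit (G : Over (Spec (CommRingCat.of K))) [GrpObj G]
    (a : G.left.presheaf.stalk (unitPt G)) :
    ∃ r : K, a - stalkBase G.hom _ r ∈ maximalIdeal (G.left.presheaf.stalk (unitPt G)) :=
  exists_scalar_sub_mem G.hom (η[G]).left (Over.w η[G]) a

variable {G H : Over (Spec (CommRingCat.of K))} [GrpObj G] [GrpObj H]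

theorem map_unitPt (f : G ⟶ H) [IsMonHom f] : f.left (unitPt G) = unitPt H := by
  have h := congrArg Over.Hom.left (IsMonHom.one_hom (f := f))
  exact congrArg (fun q => q (closedPoint K)) h

/-- A homomorphism with one-dimensional smooth source is unramified or kills all tangent vectors at
the unit. -/
theorem formallyUnramified_or_kills [Smooth G.hom] (hdim : topologicalKrullDim G.left = 1)
    (hcl : IsClosed ({unitPt G} : Set G.left)) [LocallyOfFiniteType H.hom] (f : G ⟶ H) [IsMonHom f] :
    FormallyUnramified f.left ∨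
      ∀ (L : Type u) [Field L] (M : Type u) [AddCommGroup M] [Module L M] [Module Lᵐᵒᵖ M]
        [IsCentralScalar L M] (j : Spec (CommRingCat.of L) ⟶ Spec (CommRingCat.of K))
        (c : dualOver j M ⟶ G), overPt j ≫ c = 1 → c ≫ f = 1 := by
  let O := G.left.presheaf.stalk (unitPt G)
  let O' := H.left.presheaf.stalk (f.left (unitPt G))
  let φ : O' ⟶ O := f.left.stalkMap (unitPt G)
  haveI : IsLocalHom φ.hom := f.left.toLRSHom.prop _
  -- common analysis of a tangent vector
  have main : ∀ (L : Type u) [Field L] (M : Type u) [AddCommGroup M] [Module L M] [Module Lᵐᵒᵖ M]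
      [IsCentralScalar L M] (j : Spec (CommRingCat.of L) ⟶ Spec (CommRingCat.of K))
      (c : dualOver j M ⟶ G), overPt j ≫ c = 1 →
      ∃ h : O ⟶ CommRingCat.of (TrivSqZeroExt L M), IsLocalHom h.hom ∧
        Spec.map h ≫ G.left.fromSpecStalk _ = c.left ∧
        Spec.map (h ≫ CommRingCat.ofHom (TrivSqZeroExt.fstHom L L M).toRingHom ≫
          CommRingCat.ofHom (TrivSqZeroExt.inlHom L M)) ≫ G.left.fromSpecStalk _ = (1 : dualOver j M ⟶ G).left ∧
        ∀ r, h (stalkBase G.hom _ r) = TrivSqZeroExt.inl ((h (stalkBase G.hom _ r)).fst) := by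
    intro L _ M _ _ _ _ j c hc
    have hc0 : dualPt L M ≫ c.left = j ≫ (η[G]).left := congrArg Over.Hom.left hc
    have hpt : c.left (closedPoint (TrivSqZeroExt L M)) = unitPt G := by
      rw [show closedPoint (TrivSqZeroExt L M) = dualPt L M (closedPoint L) from Subsingleton.elim (α := ↥(dual L M)) _ _]
      change (dualPt L M ≫ c.left) (closedPoint L) = _
      rw [hc0]
      exact congrArg (η[G]).left (Subsingleton.elim (α := ↥(Spec (CommRingCat.of K))) _ _)
    obtain ⟨h, hl, hh⟩ := exists_local_lift c.left hpt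
    refine ⟨h, hl, hh, ?_, fun r => ?_⟩
    · rw [Spec.map_comp, Spec.map_comp, Category.assoc, Category.assoc, hh]
      show dualHom L M ≫ dualPt L M ≫ c.left = _
      rw [hc0]
      exact (Category.assoc _ _ _).symm
    · have e : stalkBase G.hom _ ≫ h = Spec.preimage j ≫ CommRingCat.ofHom (TrivSqZeroExt.inlHom L M) :=
        Spec.map_injective (by
          rw [Spec.map_comp, Spec.map_comp, stalkBase, Spec.map_preimage, Spec.map_preimage,
            ← Category.assoc, hh]
          exact Over.w c)
      have e' := congrArg (fun q => q r) e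
      change h (stalkBase G.hom _ r) = TrivSqZeroExt.inl ((Spec.preimage j) r) at e'
      rw [e']
      rfl
  have hfst : ∀ {L : Type u} [Field L] {M : Type u} [AddCommGroup M] [Module L M] [Module Lᵐᵒᵖ M]
      [IsCentralScalar L M] (h : O ⟶ CommRingCat.of (TrivSqZeroExt L M)) [IsLocalHom h.hom],
      ∀ a ∈ maximalIdeal O, (h a).fst = 0 := by
    intro L _ M _ _ _ _ h _ a ha
    by_contra hne
    exact ha (isUnit_of_map_unit h.hom a
      (TrivSqZeroExt.isUnit_iff_isUnit_fst.mpr (isUnit_iff_ne_zero.mpr hne)))
  by_cases hP : (maximalIdeal O').map φ.hom = maximalIdeal O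
  · refine Or.inl ?_
    haveI : LocallyOfFiniteType (f.left ≫ H.hom) := by rw [Over.w]; infer_instance
    haveI : LocallyOfFiniteType f.left := locallyOfFiniteType_of_comp _ H.hom
    refine formallyUnramified_of_dual_points _ fun L _ M _ _ _ _ x y hx hxy hpt => ?_
    let j : Spec (CommRingCat.of L) ⟶ Spec (CommRingCat.of K) := dualPt L M ≫ x ≫ G.hom
    have hxs : x ≫ G.hom = dualHom L M ≫ j := by
      conv_lhs => rw [hx]
      simp only [j, Category.assoc]
    have hys : y ≫ G.hom = dualHom L M ≫ j := by
      rw [← hxs]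
      have := congrArg (· ≫ H.hom) hxy
      simpa only [Category.assoc, Over.w] using this.symm
    let x' : dualOver j M ⟶ G := Over.homMk x hxs
    let y' : dualOver j M ⟶ G := Over.homMk y hys
    have hc : overPt j ≫ (y' * x'⁻¹) = 1 := by
      have h : overPt j ≫ y' = overPt j ≫ x' := Over.OverMorphism.ext hpt.symm
      rw [MonObj.comp_mul, GrpObj.comp_inv, h, _root_.mul_inv_cancel]
    have hcf : (y' * x'⁻¹) ≫ f = 1 := by
      have h1 : y' ≫ f = x' ≫ f := Over.OverMorphism.ext hxy.symm
      rw [MonObj.mul_comp, GrpObj.inv_comp, h1, _root_.mul_inv_cancel]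
    obtain ⟨h, hl, hh, h1, hscal⟩ := main L M j _ hc
    -- `h` agrees with its reduction on the image of `O'`
    have hφ : φ ≫ h = φ ≫ h ≫ CommRingCat.ofHom (TrivSqZeroExt.fstHom L L M).toRingHom ≫
        CommRingCat.ofHom (TrivSqZeroExt.inlHom L M) := Spec.map_injective (by
      rw [← cancel_mono (H.left.fromSpecStalk _), Spec.map_comp, Spec.map_comp, Category.assoc,
        Category.assoc, Scheme.SpecMap_stalkMap_fromSpecStalk, ← Category.assoc, hh,
        ← Category.assoc, h1]
      have e := congrArg Over.Hom.left hcf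
      have e' := congrArg Over.Hom.left (MonObj.one_comp (X := dualOver j M) f)
      exact e.trans e'.symm)
    have hmax : ∀ a ∈ maximalIdeal O, h a = 0 := by
      intro a ha
      rw [← hP] at ha
      refine Submodule.span_induction ?_ (map_zero h.hom) (fun u v _ _ hu hv => ?_) (fun t u _ hu => ?_) ha
      · rintro _ ⟨b, hb, rfl⟩
        have := congrArg (fun q => q b) hφ
        simp only [CommRingCat.comp_apply] at this
        refine this.trans ?_
        show TrivSqZeroExt.inl ((h (φ b)).fst) = 0
        rw [hfst h _ (map_mem_nonunits_iff φ.hom b |>.mpr hb), TrivSqZeroExt.inl_zero]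
      · simp [map_add, hu, hv]
      · simp [smul_eq_mul, map_mul, hu]
    have heq : h = h ≫ CommRingCat.ofHom (TrivSqZeroExt.fstHom L L M).toRingHom ≫
        CommRingCat.ofHom (TrivSqZeroExt.inlHom L M) := by
      refine CommRingCat.hom_ext (RingHom.ext fun a => ?_)
      obtain ⟨r, hr⟩ := exists_scalar_sub_mem_unit G a
      show h a = TrivSqZeroExt.inl (h a).fst
      have ha : h a = h (stalkBase G.hom _ r) := by
        rw [← sub_eq_zero, ← map_sub]; exact hmax _ hr
      rw [ha]
      exact hscal r
    have hone : y' * x'⁻¹ = 1 := Over.OverMorphism.ext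
      (hh.symm.trans ((congrArg (fun q => Spec.map q ≫ G.left.fromSpecStalk _) heq).trans h1))
    exact (congrArg Over.Hom.left (mul_inv_eq_one.mp hone)).symm
  · refine Or.inr fun L _ M _ _ _ _ j c hc => ?_
    haveI : IsRegularLocalRing O := GrothLib.GrpSchField.isRegularLocalRing_stalk_of_smooth G.hom hcl
    have hsf : (maximalIdeal O).spanFinrank = 1 := by
      have h1 := IsRegularLocalRing.spanFinrank_maximalIdeal (R := O)
      rw [GrothLib.GrpSchField.ringKrullDim_stalk_eq G hcl, hdim] at h1
      exact_mod_cast h1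
    have hfg : (maximalIdeal O).FG := IsNoetherian.noetherian _
    obtain ⟨π, hπ⟩ : ∃ π, Submodule.span O {π} = maximalIdeal O := by
      have hcard := Submodule.FG.generators_ncard hfg
      rw [hsf, Set.ncard_eq_one] at hcard
      obtain ⟨π, hπ⟩ := hcard
      exact ⟨π, hπ ▸ Submodule.span_generators _⟩
    have hsq : ∀ b ∈ maximalIdeal O', φ b ∈ maximalIdeal O ^ 2 := by
      intro b hb
      have hm : φ b ∈ maximalIdeal O := map_mem_nonunits_iff φ.hom b |>.mpr hb
      rw [← hπ] at hm
      obtain ⟨a, ha⟩ := Submodule.mem_span_singleton.mp hm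
      have hna : a ∈ maximalIdeal O := by
        by_contra hu
        refine hP (le_antisymm (Ideal.map_le_iff_le_comap.mpr fun t ht => map_mem_nonunits_iff φ.hom t |>.mpr ht) ?_)
        rw [← hπ, Submodule.span_le, Set.singleton_subset_iff]
        obtain ⟨u, rfl⟩ := of_not_not hu
        have : π = (↑u⁻¹ : O) * φ b := by rw [← ha, smul_eq_mul, ← _root_.mul_assoc, Units.inv_mul, _root_.one_mul]
        rw [this]
        exact Ideal.mul_mem_left _ _ (Ideal.mem_map_of_mem _ hb)
      rw [← ha, pow_two, smul_eq_mul]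
      exact Ideal.mul_mem_mul hna (hπ ▸ Submodule.mem_span_singleton_self π)
    obtain ⟨h, hl, hh, h1, hscal⟩ := main L M j c hc
    have hzero : ∀ a ∈ maximalIdeal O ^ 2, h a = 0 := by
      intro a ha
      rw [pow_two] at ha
      refine Submodule.mul_induction_on ha (fun u hu v hv => ?_) (fun u v hu hv => by simp [map_add, hu, hv])
      rw [map_mul]
      exact TrivSqZeroExt.ext (by simp [hfst h u hu]) (by simp [hfst h u hu, hfst h v hv])
    have hφ : φ ≫ h = φ ≫ h ≫ CommRingCat.ofHom (TrivSqZeroExt.fstHom L L M).toRingHom ≫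
        CommRingCat.ofHom (TrivSqZeroExt.inlHom L M) := by
      refine CommRingCat.hom_ext (RingHom.ext fun a => ?_)
      show h (φ a) = TrivSqZeroExt.inl (h (φ a)).fst
      have hdec : ∀ y : H.left, y = unitPt H → ∀ a : H.left.presheaf.stalk y,
          ∃ r : K, a - stalkBase H.hom _ r ∈ maximalIdeal (H.left.presheaf.stalk y) := by
        rintro y rfl
        exact exists_scalar_sub_mem_unit H
      obtain ⟨r, hr⟩ := hdec _ (map_unitPt f) a
      have hbase : stalkBase H.hom _ ≫ φ = stalkBase G.hom (unitPt G) := Spec.map_injective (by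
        rw [Spec.map_comp, stalkBase, stalkBase, Spec.map_preimage, Spec.map_preimage, ← Category.assoc,
          Scheme.SpecMap_stalkMap_fromSpecStalk, Category.assoc, Over.w])
      have ha : h (φ a) = h (stalkBase G.hom _ r) := by
        rw [← hbase, CommRingCat.comp_apply, ← sub_eq_zero, ← map_sub, ← map_sub]
        exact hzero _ (hsq _ hr)
      rw [ha]
      exact hscal r
    refine Over.OverMorphism.ext ?_
    show c.left ≫ f.left = _
    have e' := congrArg Over.Hom.left (MonObj.one_comp (X := dualOver j M) f)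
    refine Eq.trans ?_ e'
    show c.left ≫ f.left = (1 : dualOver j M ⟶ G).left ≫ f.left
    rw [← hh, ← h1, Category.assoc, Category.assoc, ← Scheme.SpecMap_stalkMap_fromSpecStalk,
      ← Spec.map_comp_assoc, ← Spec.map_comp_assoc, hφ]

/-- If `f` is unramified and `g` kills tangent vectors at the unit, `f * g` is unramified. -/
theorem formallyUnramified_mul [IsCommMonObj H] [LocallyOfFiniteType G.hom] [LocallyOfFiniteType H.hom]
    (f g : G ⟶ H) [IsMonHom f] [IsMonHom g] [IsMonHom (f * g)] [FormallyUnramified f.left]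
    (hg : ∀ (L : Type u) [Field L] (M : Type u) [AddCommGroup M] [Module L M] [Module Lᵐᵒᵖ M]
        [IsCentralScalar L M] (j : Spec (CommRingCat.of L) ⟶ Spec (CommRingCat.of K))
        (c : dualOver j M ⟶ G), overPt j ≫ c = 1 → c ≫ g = 1) :
    FormallyUnramified (f * g).left := by
  haveI : LocallyOfFiniteType ((f * g).left ≫ H.hom) := by rw [Over.w]; infer_instance
  haveI : LocallyOfFiniteType (f * g).left := locallyOfFiniteType_of_comp _ H.hom
  haveI : LocallyOfFiniteType (f.left ≫ H.hom) := by rw [Over.w]; infer_instance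
  haveI : LocallyOfFiniteType f.left := locallyOfFiniteType_of_comp _ H.hom
  refine formallyUnramified_of_dual_points _ fun L _ M _ _ _ _ x y hx hxy hpt => ?_
  let j : Spec (CommRingCat.of L) ⟶ Spec (CommRingCat.of K) := dualPt L M ≫ x ≫ G.hom
  have hxs : x ≫ G.hom = dualHom L M ≫ j := by
    conv_lhs => rw [hx]
    simp only [j, Category.assoc]
  have hys : y ≫ G.hom = dualHom L M ≫ j := by
    rw [← hxs]
    have := congrArg (· ≫ H.hom) hxy
    simpa only [Category.assoc, Over.w] using this.symm
  let x' : dualOver j M ⟶ G := Over.homMk x hxs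
  let y' : dualOver j M ⟶ G := Over.homMk y hys
  have hc : overPt j ≫ (y' * x'⁻¹) = 1 := by
    have h : overPt j ≫ y' = overPt j ≫ x' := Over.OverMorphism.ext hpt.symm
    rw [MonObj.comp_mul, GrpObj.comp_inv, h, _root_.mul_inv_cancel]
  have hcfg : (y' * x'⁻¹) ≫ (f * g) = 1 := by
    have h1 : y' ≫ (f * g) = x' ≫ (f * g) := Over.OverMorphism.ext hxy.symm
    rw [MonObj.mul_comp, GrpObj.inv_comp, h1, _root_.mul_inv_cancel]
  rw [MonObj.comp_mul, hg L M j _ hc, _root_.mul_one] at hcfg
  have hone : y' * x'⁻¹ = 1 := Over.OverMorphism.ext (eq_of_formallyUnramified f.left _ _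
    (congrArg Over.Hom.left (hcfg.trans (MonObj.one_comp (X := dualOver j M) f).symm))
    (congrArg Over.Hom.left (hc.trans (MonObj.comp_one (overPt j)).symm)))
  exact (congrArg Over.Hom.left (mul_inv_eq_one.mp hone)).symm

end GrothLib.AbMul
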