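import Groth.Agent.Lib.Flatness.Criterion
import Mathlib.Algebra.TrivSqZeroExt.Basic
import Mathlib.RingTheory.Unramified.LocalRing
import Mathlib.RingTheory.Flat.Basic
import Mathlib.RingTheory.Nakayama
import Mathlib.RingTheory.RingHom.Flat
import Mathlib.RingTheory.RingHom.EssFiniteType
import Mathlib.RingTheory.RingHom.Unramified
import Mathlib.LinearAlgebra.Dual.Lemmas

/-!
Endomorphisms of a local ring with rational residue field which are injective on tangent vectors.
-/

universe u

open IsLocalRing TensorProduct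

namespace GrothLib.AbMul.EndoLocal

variable {k : Type u} [Field k] {R L : Type u} [CommRing R] [CommRing L] [IsLocalRing R] [IsLocalRing L]
  [IsNoetherianRing L] (φ : R →+* L) (c : k →+* R) (π : L →+* k)

/-- If tangent vectors killed by `φ` are zero, the maximal ideal of the target is generated by the
image of that of the source. -/
theorem map_maximalIdeal (hπc : π.comp (φ.comp c) = RingHom.id k) (hker : RingHom.ker π = maximalIdeal L)
    (hloc : (maximalIdeal R).map φ ≤ maximalIdeal L)
    (hv : ∀ D : L →+* TrivSqZeroExt k k, (∀ a, (D a).fst = π a) →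
      (∀ x, D (φ (c x)) = TrivSqZeroExt.inl x) → (∀ r, (D (φ r)).snd = 0) → ∀ a, (D a).snd = 0) :
    (maximalIdeal R).map φ = maximalIdeal L := by
  have hc : ∀ x, π (φ (c x)) = x := fun x => RingHom.congr_fun hπc x
  letI : Algebra k L := (φ.comp c).toAlgebra
  let J : Ideal L := (maximalIdeal R).map φ ⊔ maximalIdeal L * maximalIdeal L
  have hsub : maximalIdeal L ≤ J := by
    intro a ha
    by_contra haJ
    let V := L ⧸ J.restrictScalars k
    have hne : (Submodule.Quotient.mk a : V) ≠ 0 := fun h =>
      haJ ((Submodule.Quotient.mk_eq_zero _).1 h)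
    obtain ⟨ℓ, hℓ⟩ : ∃ ℓ : V →ₗ[k] k, ℓ (Submodule.Quotient.mk a) ≠ 0 := by
      by_contra h
      push Not at h
      exact hne ((Module.forall_dual_apply_eq_zero_iff k _).1 h)
    let d : L →ₗ[k] k := ℓ.comp (Submodule.mkQ _)
    have hd : ∀ b ∈ J, d b = 0 := fun b hb => by
      show ℓ (Submodule.Quotient.mk b) = 0
      rw [(Submodule.Quotient.mk_eq_zero _).2 (show b ∈ J.restrictScalars k from hb), map_zero]
    let e : L → k := fun b => d (b - φ (c (π b)))
    have hmem : ∀ b, b - φ (c (π b)) ∈ maximalIdeal L := fun b => by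
      rw [← hker, RingHom.mem_ker, map_sub, hc, sub_self]
    have hsmul : ∀ (x : k) b, d (φ (c x) * b) = x * d b := fun x b => by
      show d (x • b) = _
      rw [map_smul, smul_eq_mul]
    have hmul : ∀ a b, e (a * b) = π a * e b + π b * e a := fun a b => by
      have h0 : d ((a - φ (c (π a))) * (b - φ (c (π b)))) = 0 :=
        hd _ (Submodule.mem_sup_right (Ideal.mul_mem_mul (hmem a) (hmem b)))
      show d (a * b - φ (c (π (a * b)))) = _
      rw [map_mul, map_mul, map_mul, show a * b - φ (c (π a)) * φ (c (π b)) =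
        (a - φ (c (π a))) * (b - φ (c (π b))) + φ (c (π a)) * (b - φ (c (π b))) +
          φ (c (π b)) * (a - φ (c (π a))) by ring, map_add, map_add, h0, zero_add, hsmul, hsmul]
    let D : L →+* TrivSqZeroExt k k :=
      { toFun := fun b => TrivSqZeroExt.inl (π b) + TrivSqZeroExt.inr (e b)
        map_one' := TrivSqZeroExt.ext (by simp) (by simp [e, map_one])
        map_mul' := fun a b => TrivSqZeroExt.ext (by simp) (by simp [hmul]; ring)
        map_zero' := TrivSqZeroExt.ext (by simp) (by simp [e, map_zero])
        map_add' := fun a b => TrivSqZeroExt.ext (by simp) (by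
          simp only [TrivSqZeroExt.snd_add, TrivSqZeroExt.snd_inl, TrivSqZeroExt.snd_inr, zero_add]
          show d _ = d _ + d _
          rw [← map_add]; congr 1; simp only [map_add]; ring) }
    have hsnd : ∀ b, (D b).snd = e b := fun b => by
      show (TrivSqZeroExt.inl (π b) + TrivSqZeroExt.inr (e b) : TrivSqZeroExt k k).snd = e b
      simp
    have h1 := hv D (fun b => by
        show (TrivSqZeroExt.inl (π b) + TrivSqZeroExt.inr (e b) : TrivSqZeroExt k k).fst = π b
        simp)
      (fun x => TrivSqZeroExt.ext (by simp [D, hc]) (by rw [hsnd]; simp [e, hc]))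
      (fun r => by
        rw [hsnd]
        refine hd _ (Submodule.mem_sup_left ?_)
        rw [← map_sub]
        refine Ideal.mem_map_of_mem φ ((mem_maximalIdeal _).2 fun hu => ?_)
        have hu' : IsUnit (π (φ (r - c (π (φ r))))) := (hu.map φ).map π
        rw [map_sub, map_sub, hc, sub_self] at hu'
        exact not_isUnit_zero hu')
      a
    rw [hsnd] at h1
    have hπa : π a = 0 := by rw [← RingHom.mem_ker, hker]; exact ha
    simp [e, hπa] at h1
    exact hℓ h1
  refine le_antisymm hloc ?_
  exact Submodule.le_of_le_smul_of_le_jacobson_bot (IsNoetherian.noetherian _)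
    (maximalIdeal_le_jacobson _) hsub

variable [IsNoetherianRing R] (eqv : R ≃+* L)

theorem exists_approx (hπc : π.comp (φ.comp c) = RingHom.id k) (hker : RingHom.ker π = maximalIdeal L)
    (hmap : (maximalIdeal R).map φ = maximalIdeal L) (n : ℕ) (b : L) :
    ∃ r, b - φ r ∈ maximalIdeal L ^ n := by
  have hc : ∀ x, π (φ (c x)) = x := fun x => RingHom.congr_fun hπc x
  induction n with
  | zero => exact ⟨0, by simp⟩
  | succ n ih =>
    obtain ⟨r, hr⟩ := ih
    rw [← hmap, ← Ideal.map_pow] at hr
    have key : ∀ i ∈ (maximalIdeal R ^ n).map φ, ∃ t, i - φ t ∈ maximalIdeal L ^ (n + 1) := by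
      intro i hi
      induction hi using Submodule.span_induction with
      | mem y hy => obtain ⟨t, -, rfl⟩ := hy; exact ⟨t, by simp⟩
      | zero => exact ⟨0, by simp⟩
      | add x y _ _ hx hy =>
        obtain ⟨s, hs⟩ := hx
        obtain ⟨t, ht⟩ := hy
        refine ⟨s + t, ?_⟩
        rw [map_add, add_sub_add_comm]
        exact add_mem hs ht
      | smul o x hx' hx =>
        obtain ⟨t, ht⟩ := hx
        refine ⟨c (π o) * t, ?_⟩
        rw [smul_eq_mul, map_mul, show o * x - φ (c (π o)) * φ t =
          (o - φ (c (π o))) * x + φ (c (π o)) * (x - φ t) by ring]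
        refine add_mem ?_ (Ideal.mul_mem_left _ _ ht)
        rw [pow_succ']
        refine Ideal.mul_mem_mul ?_ ?_
        · rw [← hker, RingHom.mem_ker, map_sub, hc, sub_self]
        · rw [← hmap, ← Ideal.map_pow]
          exact hx'
    obtain ⟨t, ht⟩ := key _ hr
    exact ⟨r + t, by rwa [map_add, ← sub_sub]⟩

include eqv in
theorem mem_pow_of_map_mem (hπc : π.comp (φ.comp c) = RingHom.id k) (hker : RingHom.ker π = maximalIdeal L)
    (hmap : (maximalIdeal R).map φ = maximalIdeal L) (n : ℕ) (r : R) (hr : φ r ∈ maximalIdeal L ^ n) :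
    r ∈ maximalIdeal R ^ n := by
  have hmax : (maximalIdeal L).map eqv.symm.toRingHom = maximalIdeal R :=
    IsLocalRing.eq_maximalIdeal
      (Ideal.map_isMaximal_of_equiv eqv.symm)
  have hI : maximalIdeal L ^ n ≤ (maximalIdeal L ^ n).comap (φ.comp eqv.symm.toRingHom) := by
    rw [← Ideal.map_le_iff_le_comap, Ideal.map_pow, ← Ideal.map_map, hmax, hmap]
  let ψ : L ⧸ maximalIdeal L ^ n →+* L ⧸ maximalIdeal L ^ n := Ideal.quotientMap _ _ hI
  have hψ : Function.Surjective ψ := by
    intro y
    obtain ⟨b, rfl⟩ := Ideal.Quotient.mk_surjective y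
    obtain ⟨s, hs⟩ := exists_approx φ c π hπc hker hmap n b
    refine ⟨Ideal.Quotient.mk _ (eqv s), ?_⟩
    simp only [ψ, Ideal.quotientMap_mk]
    rw [Ideal.Quotient.eq]
    simpa using neg_mem hs
  have hinj : Function.Injective ψ := by
    obtain ⟨N, hN⟩ := monotone_stabilizes_iff_noetherian.2
      (inferInstance : IsNoetherian (L ⧸ maximalIdeal L ^ n) (L ⧸ maximalIdeal L ^ n))
      ⟨fun i => RingHom.ker (ψ ^ i), fun i j hij => by
        intro x hx
        obtain ⟨d, rfl⟩ := Nat.exists_eq_add_of_le hij
        rw [RingHom.mem_ker] at hx ⊢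
        rw [add_comm, pow_add, RingHom.mul_def, RingHom.comp_apply, hx, map_zero]⟩
    rw [injective_iff_map_eq_zero]
    intro x hx
    obtain ⟨y, rfl⟩ := (show Function.Surjective (ψ ^ N) by
      rw [RingHom.coe_pow]; exact hψ.iterate N) x
    have h1 : y ∈ RingHom.ker (ψ ^ (N + 1)) := by
      rw [RingHom.mem_ker, pow_succ', RingHom.mul_def, RingHom.comp_apply, hx]
    have h2 : y ∈ RingHom.ker (ψ ^ N) := by
      have := hN (N + 1) (Nat.le_succ N)
      exact this.ge h1
    exact h2
  have h0 : ψ (Ideal.Quotient.mk _ (eqv r)) = 0 := by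
    simp only [ψ, Ideal.quotientMap_mk]
    rw [Ideal.Quotient.eq_zero_iff_mem]
    simpa using hr
  have h1 := Ideal.mem_map_of_mem eqv.symm.toRingHom
    (Ideal.Quotient.eq_zero_iff_mem.1 (hinj (h0.trans (map_zero ψ).symm)))
  rw [Ideal.map_pow, hmax] at h1
  simpa using h1

include eqv in
/-- Such a map is flat. -/
theorem flat (hπc : π.comp (φ.comp c) = RingHom.id k) (hker : RingHom.ker π = maximalIdeal L)
    (hmap : (maximalIdeal R).map φ = maximalIdeal L) : φ.Flat := by
  algebraize [φ]
  show Module.Flat R L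
  refine GrothLib.Flatness.flat_of_forall_pow (S := L) (maximalIdeal R)
    (by rw [show algebraMap R L = φ from rfl, hmap]; exact maximalIdeal_le_jacobson _) ?_
  intro n A B _ _ _ _ f hA hB hf
  have hl : ∀ b, ∃ r, b - φ r ∈ maximalIdeal L ^ n := exists_approx φ c π hπc hker hmap n
  choose σ hσ using hl
  have huniq : ∀ b r, b - φ r ∈ maximalIdeal L ^ n → r - σ b ∈ maximalIdeal R ^ n := fun b r hr =>
    mem_pow_of_map_mem φ c π eqv hπc hker hmap n _ (by
      rw [map_sub]; simpa using sub_mem (hσ b) hr)
  have hkill : ∀ {P : Type u} [AddCommGroup P] [Module R P],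
      Module.IsTorsionBySet R P (maximalIdeal R ^ n : Ideal R) → ∀ r s : R,
        r - s ∈ maximalIdeal R ^ n → ∀ x : P, r • x = s • x := fun {P} _ _ hP r s hrs x => by
    rw [← sub_eq_zero, ← sub_smul]
    exact hP (a := ⟨_, hrs⟩)
  let ρ : ∀ (P : Type u) [AddCommGroup P] [Module R P],
      Module.IsTorsionBySet R P (maximalIdeal R ^ n : Ideal R) → (L ⊗[R] P →ₗ[R] P) :=
    fun P _ _ hP => TensorProduct.lift <| LinearMap.mk₂ R (fun b x => σ b • x)
      (fun b b' x => by
        rw [← add_smul]
        refine (hkill hP _ _ (huniq _ _ ?_) x).symm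
        rw [map_add, add_sub_add_comm]
        exact add_mem (hσ b) (hσ b'))
      (fun r b x => by
        rw [smul_smul]
        refine (hkill hP _ _ (huniq _ _ ?_) x).symm
        rw [map_mul, Algebra.smul_def, show algebraMap R L r = φ r from rfl, ← mul_sub]
        exact Ideal.mul_mem_left _ _ (hσ b))
      (fun b x x' => smul_add _ _ _) (fun r b x => smul_comm _ _ _)
  have hone : ∀ z : L ⊗[R] A, z = (1 : L) ⊗ₜ[R] ρ A hA z := by
    intro z
    induction z using TensorProduct.induction_on with
    | zero => simp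
    | add x y hx hy => rw [map_add, TensorProduct.tmul_add, ← hx, ← hy]
    | tmul b x =>
      simp only [ρ, TensorProduct.lift.tmul, LinearMap.mk₂_apply]
      rw [← TensorProduct.smul_tmul, Algebra.smul_def, mul_one, ← sub_eq_zero, ← TensorProduct.sub_tmul]
      have h : b - algebraMap R L (σ b) ∈ (maximalIdeal R ^ n).map (algebraMap R L) := by
        rw [Ideal.map_pow, show algebraMap R L = φ from rfl, hmap]
        exact hσ b
      generalize b - algebraMap R L (σ b) = z at h ⊢
      induction h using Submodule.span_induction with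
      | mem y hy =>
        obtain ⟨t, ht, rfl⟩ := hy
        rw [Algebra.algebraMap_eq_smul_one, TensorProduct.smul_tmul, hA (a := ⟨t, ht⟩), TensorProduct.tmul_zero]
      | zero => simp
      | add y y' _ _ hy hy' => rw [TensorProduct.add_tmul, hy, hy', add_zero]
      | smul o y _ hy =>
        rw [smul_eq_mul, show (o * y) ⊗ₜ[R] x = (LinearMap.mulLeft R o).rTensor A (y ⊗ₜ[R] x) from rfl, hy, map_zero]
  have hnat : ∀ z, ρ B hB (f.lTensor L z) = f (ρ A hA z) := by
    intro z
    induction z using TensorProduct.induction_on with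
    | zero => simp
    | add x y hx hy => simp [hx, hy]
    | tmul b x => simp [ρ]
  rw [injective_iff_map_eq_zero]
  intro z hz
  have h2 : f (ρ A hA z) = 0 := by rw [← hnat, hz, map_zero]
  rw [hone z, hf (h2.trans (map_zero f).symm), TensorProduct.tmul_zero]

/-- Such a map is unramified if it is essentially of finite type. -/
theorem formallyUnramified (hπc : π.comp (φ.comp c) = RingHom.id k)
    (hker : RingHom.ker π = maximalIdeal L) (hmap : (maximalIdeal R).map φ = maximalIdeal L)
    (hft : φ.EssFiniteType) : φ.FormallyUnramified := by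
  algebraize [φ]
  haveI : IsLocalHom (algebraMap R L) :=
    ((IsLocalRing.local_hom_TFAE φ).out 0 2).2 hmap.le
  show Algebra.FormallyUnramified R L
  rw [Algebra.FormallyUnramified.iff_map_maximalIdeal_eq]
  refine ⟨?_, hmap⟩
  have hs : Function.Surjective (algebraMap (ResidueField R) (ResidueField L)) := by
    intro y
    obtain ⟨b, rfl⟩ := IsLocalRing.residue_surjective y
    refine ⟨residue R (c (π b)), ?_⟩
    show residue L (φ (c (π b))) = residue L b
    rw [← sub_eq_zero, ← map_sub, residue_eq_zero_iff, ← hker, RingHom.mem_ker, map_sub,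
      show π (φ (c (π b))) = π b from RingHom.congr_fun hπc _, sub_self]
  exact ⟨fun y => by obtain ⟨x, rfl⟩ := hs y; exact isSeparable_algebraMap x⟩

end GrothLib.AbMul.EndoLocal
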