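import Groth.Agent.Lib.AbMul.Tangent
import Groth.Agent.Lib.Rigidity.Relative.AbScheme
import Groth.Agent.Lib.Rigidity.Isogeny
import Groth.Agent.Lib.Dim.QuasiFinite
import Groth.Agent.Lib.FibreFlat.Fibrewise
import Groth.Agent.Lib.EtBasicB.OverField
import Groth.Agent.Lib.GrpSchField.HomFlat

/-!
# Multiplication by an integer on abelian schemes is étale when the integer is invertible
-/

universe u

open CategoryTheory Limits AlgebraicGeometry
open MonoidalCategory CartesianMonoidalCategory MonObj

namespace GrothLib.AbMul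

/-- Points with values in `L ⊕ M` lift uniquely along an unramified morphism. -/
theorem eq_of_formallyUnramified {X Y : Scheme.{u}} (f : X ⟶ Y) [FormallyUnramified f] [LocallyOfFiniteType f]
    {L : Type u} [Field L] {M : Type u} [AddCommGroup M] [Module L M] [Module Lᵐᵒᵖ M] [IsCentralScalar L M]
    (x y : dual L M ⟶ X) (h : x ≫ f = y ≫ f) (hpt : dualPt L M ≫ x = dualPt L M ≫ y) : x = y := by
  let p := pullback.lift x y h
  have hp : Set.range p ⊆ Set.range (pullback.diagonal f) := by
    rintro _ ⟨z, rfl⟩
    refine ⟨x z, ?_⟩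
    obtain ⟨o, rfl⟩ : z ∈ Set.range (dualPt L M) := (range_dualPt (M := M) L).ge trivial
    have : (dualPt L M ≫ x) ≫ pullback.diagonal f = dualPt L M ≫ p := by
      apply pullback.hom_ext
      · simp only [p, Category.assoc, pullback.diagonal_fst, Category.comp_id]
        exact congrArg (dualPt L M ≫ ·) (pullback.lift_fst x y h).symm
      · simp only [p, Category.assoc, pullback.diagonal_snd, Category.comp_id]
        exact hpt.trans (congrArg (dualPt L M ≫ ·) (pullback.lift_snd x y h).symm)
    exact congrArg (fun q => q o) this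
  let l := IsOpenImmersion.lift (pullback.diagonal f) p hp
  have hl : l ≫ pullback.diagonal f = p := IsOpenImmersion.lift_fac _ _ _
  have h1 := congrArg (· ≫ pullback.fst f f) hl
  have h2 := congrArg (· ≫ pullback.snd f f) hl
  simp only [p, Category.assoc, pullback.diagonal_fst, pullback.diagonal_snd, Category.comp_id,
    pullback.lift_fst, pullback.lift_snd] at h1 h2
  exact h1.symm.trans h2

/-- The power maps of a commutative group object are homomorphisms. -/
theorem isMonHom_zpow {S : Scheme.{u}} (A : Over S) [GrpObj A] [IsCommMonObj A] (n : ℤ) : IsMonHom (𝟙 A ^ n) := by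
  refine GrothLib.GrpSchField.isMonHom_of_mul _ ?_
  have e : μ[A] = fst A A * snd A A := by rw [Hom.mul_def, lift_fst_snd, Category.id_comp]
  rw [GrpObj.comp_zpow, Category.comp_id]
  conv_lhs => rw [e, mul_zpow]
  rw [Hom.mul_def]
  congr 1
  apply CartesianMonoidalCategory.hom_ext
  · rw [lift_fst, tensorHom_fst, GrpObj.comp_zpow, Category.comp_id]
  · rw [lift_snd, tensorHom_snd, GrpObj.comp_zpow, Category.comp_id]

section field
variable {K : Type u} [Field K] {G : Over (Spec (CommRingCat.of K))} [GrpObj G]

theorem cast_eq_algebraMap {L : Type u} [Field L] (r : K →+* L) (n : ℤ) : (n : L) = r (n : K) :=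
  (map_intCast r n).symm

/-- If tangent vectors at the unit killed by the `n`-th power are trivial, the `n`-th power map is
unramified. -/
theorem formallyUnramified_pow [IsCommMonObj G] [LocallyOfFiniteType G.hom] (n : ℤ) (hn : (n : K) ≠ 0) :
    FormallyUnramified (𝟙 G ^ n).left := by
  haveI : LocallyOfFiniteType ((𝟙 G ^ n).left ≫ G.hom) := by rw [Over.w]; infer_instance
  haveI : LocallyOfFiniteType (𝟙 G ^ n).left := locallyOfFiniteType_of_comp _ G.hom
  refine formallyUnramified_of_dual_points _ fun L _ M _ _ _ _ x y hx hxy hpt => ?_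
  let j : Spec (CommRingCat.of L) ⟶ Spec (CommRingCat.of K) := dualPt L M ≫ x ≫ G.hom
  have hxs : x ≫ G.hom = dualHom L M ≫ j := by
    conv_lhs => rw [hx]
    simp only [j, Category.assoc]
  have hys : y ≫ G.hom = dualHom L M ≫ j := by
    rw [← hxs]
    have := congrArg (· ≫ G.hom) hxy
    simpa only [Category.assoc, Over.w] using this.symm
  let x' : dualOver j M ⟶ G := Over.homMk x hxs
  let y' : dualOver j M ⟶ G := Over.homMk y hys
  have hc : overPt j ≫ (y' * x'⁻¹) = 1 := by
    have h : overPt j ≫ y' = overPt j ≫ x' := Over.OverMorphism.ext hpt.symm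
    rw [MonObj.comp_mul, GrpObj.comp_inv, h, _root_.mul_inv_cancel]
  have hpow : y' ^ n = x' ^ n := by
    have h1 : y' ≫ (𝟙 G ^ n) = x' ≫ (𝟙 G ^ n) := Over.OverMorphism.ext hxy.symm
    rwa [GrpObj.comp_zpow, GrpObj.comp_zpow, Category.comp_id, Category.comp_id] at h1
  have hL : (n : L) ≠ 0 := by
    rw [cast_eq_algebraMap (Spec.preimage j).hom n]
    exact fun h => hn ((map_eq_zero _).mp h)
  have h : y' * x'⁻¹ = 1 := eq_one_of_zpow_eq_one j _ hc n hL (by
    rw [mul_zpow, inv_zpow, hpow, _root_.mul_inv_cancel])
  exact (congrArg Over.Hom.left (mul_inv_eq_one.mp h)).symm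

/-- If the `n`-th power map is unramified and `n = 0` in `K`, the group is unramified. -/
theorem formallyUnramified_hom [IsCommMonObj G] [LocallyOfFiniteType G.hom] (n : ℤ) (hn : (n : K) = 0)
    [FormallyUnramified (𝟙 G ^ n).left] : FormallyUnramified G.hom := by
  refine formallyUnramified_of_dual_points _ fun L _ M _ _ _ _ x y hx hxy hpt => ?_
  let j : Spec (CommRingCat.of L) ⟶ Spec (CommRingCat.of K) := dualPt L M ≫ x ≫ G.hom
  have hxs : x ≫ G.hom = dualHom L M ≫ j := by
    conv_lhs => rw [hx]
    simp only [j, Category.assoc]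
  have hys : y ≫ G.hom = dualHom L M ≫ j := hxy ▸ hxs
  let x' : dualOver j M ⟶ G := Over.homMk x hxs
  let y' : dualOver j M ⟶ G := Over.homMk y hys
  have hc : overPt j ≫ (y' * x'⁻¹) = 1 := by
    have h : overPt j ≫ y' = overPt j ≫ x' := Over.OverMorphism.ext hpt.symm
    rw [MonObj.comp_mul, GrpObj.comp_inv, h, _root_.mul_inv_cancel]
  have hL : (n : L) = 0 := by rw [cast_eq_algebraMap (Spec.preimage j).hom n, hn, map_zero]
  have h1 : (y' * x'⁻¹) ^ n = 1 := zpow_eq_one_of_cast_eq_zero j _ hc n hL
  rw [mul_zpow, inv_zpow, mul_inv_eq_one] at h1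
  have h2 : y ≫ (𝟙 G ^ n).left = x ≫ (𝟙 G ^ n).left := by
    have h3 : y' ≫ (𝟙 G ^ n) = x' ≫ (𝟙 G ^ n) := by
      rw [GrpObj.comp_zpow, GrpObj.comp_zpow, Category.comp_id, Category.comp_id, h1]
    exact congrArg Over.Hom.left h3
  haveI : LocallyOfFiniteType ((𝟙 G ^ n).left ≫ G.hom) := by rw [Over.w]; infer_instance
  haveI : LocallyOfFiniteType (𝟙 G ^ n).left := locallyOfFiniteType_of_comp _ G.hom
  exact eq_of_formallyUnramified (𝟙 G ^ n).left x y h2.symm hpt

end field

/-- Multiplication by `n` on an abelian variety is finite, étale and surjective if `n ≠ 0` in `K`. -/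
theorem isFinite_etale_surjective_pow {K : Type u} [Field K] (A : Over (Spec (CommRingCat.of K))) [GrpObj A]
    [IsCommMonObj A] [IsProper A.hom] [GeometricallyIntegral A.hom] (n : ℤ) (hn : (n : K) ≠ 0) :
    IsFinite (𝟙 A ^ n).left ∧ Etale (𝟙 A ^ n).left ∧ Surjective (𝟙 A ^ n).left := by
  set f := 𝟙 A ^ n
  haveI : FormallyUnramified f.left := formallyUnramified_pow n hn
  haveI : IsProper (f.left ≫ A.hom) := by rw [Over.w]; infer_instance
  haveI : IsProper f.left := IsProper.of_comp f.left A.hom
  haveI : LocallyQuasiFinite f.left := GrothLib.EtBasicB.locallyQuasiFinite_of_unramified f.left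
  haveI : IsFinite f.left := IsFinite.of_isProper_of_locallyQuasiFinite f.left
  haveI : IsIntegral A.left := GeometricallyIntegral.isIntegral_of_subsingleton A.hom
  haveI hs : Surjective f.left := by
    obtain ⟨m, hm, hm'⟩ := GrothLib.Dim.dim_closure_range_eq f.left A.hom
    refine ⟨fun a => ?_⟩
    have h := GrothLib.Dim.eq_univ_of_dim_le isClosed_closure (hm.trans hm'.symm).le hm'
    rw [f.left.isClosedMap.isClosed_range.closure_eq] at h
    exact h.ge (Set.mem_univ a)
  haveI : IsMonHom f := isMonHom_zpow A n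
  haveI : IsLocallyNoetherian A.left := LocallyOfFiniteType.isLocallyNoetherian A.hom
  haveI : Flat f.left := GrothLib.GrpSchField.flat_hom f
  haveI : LocallyOfFinitePresentation f.left := inferInstance
  exact ⟨inferInstance, Etale.of_formallyUnramified_of_flat f.left, hs⟩

/-- Over a base on which `n` is invertible, multiplication by `n` on an abelian scheme is finite, étale
and surjective. -/
theorem isFinite_etale_surjective_pow_relative {S : Scheme.{u}} (X : Over S) [GrpObj X] [IsCommMonObj X]
    [IsProper X.hom] [Smooth X.hom] [GeometricallyConnected X.hom] (n : ℤ) (hn : IsUnit (n : Γ(S, ⊤))) :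
    IsFinite (𝟙 X ^ n).left ∧ Etale (𝟙 X ^ n).left ∧ Surjective (𝟙 X ^ n).left := by
  set f := 𝟙 X ^ n with hf
  haveI : IsProper (f.left ≫ X.hom) := by rw [Over.w]; infer_instance
  haveI : IsProper f.left := IsProper.of_comp f.left X.hom
  haveI : LocallyOfFinitePresentation (f.left ≫ X.hom) := by rw [Over.w]; infer_instance
  haveI : Flat (f.left ≫ X.hom) := by rw [Over.w]; infer_instance
  have key : ∀ s : S, Etale (pullback.snd f.left (X.hom.fiberι s)) ∧
      Surjective (pullback.snd f.left (X.hom.fiberι s)) := fun s => by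
    let jj : Spec (CommRingCat.of (S.residueField s)) ⟶ S := S.fromSpecResidueField s
    let P := Over.pullback jj
    let A' : Over (Spec (CommRingCat.of (S.residueField s))) := P.obj X
    let _ : GrpObj A' := Functor.grpObjObj
    haveI : IsCommMonObj A' := Functor.isCommMonObj_obj
    haveI : IsProper A'.hom := inferInstanceAs (IsProper (pullback.snd X.hom jj))
    haveI : Smooth A'.hom := inferInstanceAs (Smooth (pullback.snd X.hom jj))
    haveI : GeometricallyConnected A'.hom := inferInstanceAs (GeometricallyConnected (pullback.snd X.hom jj))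
    haveI : GeometricallyIntegral A'.hom := GrothLib.Rigidity.geometricallyIntegral_of_smooth A'
    have hn' : ((n : ℤ) : S.residueField s) ≠ 0 := by
      have h := hn.map ((S.presheaf.germ ⊤ s trivial).hom)
      have h' := h.map (IsLocalRing.residue (S.presheaf.stalk s))
      rw [map_intCast, map_intCast] at h'
      exact h'.ne_zero
    obtain ⟨-, het, hsurj⟩ := isFinite_etale_surjective_pow A' n hn'
    have hF : (P.map f : A' ⟶ A') = 𝟙 A' ^ n := by
      rw [← P.map_id X]
      exact map_zpow (P.homMonoidHom (X := X) (M := X)) (𝟙 X) n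
    let F : A' ⟶ A' := P.map f
    have sq : IsPullback (pullback.fst X.hom jj) F.left f.left (pullback.fst X.hom jj) := by
      refine IsPullback.of_bot ?_ ?_ (IsPullback.of_hasPullback X.hom jj)
      · have : F.left ≫ pullback.snd X.hom jj = pullback.snd X.hom jj := Over.w F
        rw [this, Over.w]
        exact IsPullback.of_hasPullback X.hom jj
      · exact (pullback.lift_fst _ _ _).symm
    have e : pullback.snd f.left (X.hom.fiberι s) = sq.isoPullback.inv ≫ F.left :=
      (sq.isoPullback_inv_snd).symm
    have hF2 : F.left = (𝟙 A' ^ n).left := congrArg Over.Hom.left hF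
    have het' : Etale F.left := by rw [hF2]; exact het
    have hsurj' : Surjective F.left := by rw [hF2]; exact hsurj
    rw [e]
    exact ⟨(MorphismProperty.cancel_left_of_respectsIso @Etale sq.isoPullback.inv _).mpr het',
      (MorphismProperty.cancel_left_of_respectsIso @Surjective sq.isoPullback.inv _).mpr hsurj'⟩
  haveI : Etale f.left := GrothLib.FibreFlat.etale_of_fibrewise f.left X.hom fun s => (key s).1
  haveI : LocallyQuasiFinite f.left := GrothLib.EtBasicB.locallyQuasiFinite_of_unramified f.left
  refine ⟨IsFinite.of_isProper_of_locallyQuasiFinite f.left, inferInstance, ⟨fun x => ?_⟩⟩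
  obtain ⟨z, hz⟩ : x ∈ Set.range (X.hom.fiberι (X.hom x)) := by
    rw [Scheme.Hom.range_fiberι]; rfl
  obtain ⟨w, hw⟩ := (key (X.hom x)).2.surj z
  exact ⟨(pullback.fst f.left (X.hom.fiberι (X.hom x))) w, by
    rw [← Scheme.Hom.comp_apply, pullback.condition, Scheme.Hom.comp_apply, hw, hz]⟩

end GrothLib.AbMul
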