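import Groth.Agent.Lib.AbMul.EndoLocal
import Groth.Agent.Lib.AbMul.Etale
import Groth.Agent.Lib.LocProp.Stalk
import Groth.Agent.Lib.FibreLocus.Field

/-!
The power map of a group scheme over a field is etale near central rational points when the
exponent is invertible.
-/

universe u

open CategoryTheory Limits AlgebraicGeometry IsLocalRing
open MonoidalCategory CartesianMonoidalCategory MonObj

set_option backward.isDefEq.respectTransparency.types false

namespace GrothLib.AbMul

variable {K : Type u} [Field K] (G : Over (Spec (CommRingCat.of K))) [GrpObj G]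

theorem unit_comp_pow (n : ℕ) : η[G] ≫ (𝟙 G ^ n) = η[G] := by
  have h1 : η[G] = (1 : 𝟙_ (Over (Spec (CommRingCat.of K))) ⟶ G) := by
    rw [Hom.one_def, show toUnit (𝟙_ (Over (Spec (CommRingCat.of K)))) = 𝟙 _ from toUnit_unique _ _,
      Category.id_comp]
  rw [← zpow_natCast, GrpObj.comp_zpow, Category.comp_id, h1, one_zpow]

/-- The power map is etale near the unit. -/
theorem exists_etale_pow_unit [LocallyOfFiniteType G.hom] (n : ℕ) (hn : (n : K) ≠ 0) :
    ∃ U : G.left.Opens, (∀ p : ↥(𝟙_ (Over (Spec (CommRingCat.of K)))).left, η[G].left p ∈ U) ∧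
      Etale (U.ι ≫ (𝟙 G ^ n).left) := by
  haveI : LocallyOfFinitePresentation G.hom := inferInstance
  let f : G.left ⟶ G.left := (𝟙 G ^ n).left
  haveI : LocallyOfFiniteType (f ≫ G.hom) := by rw [Over.w]; infer_instance
  haveI : LocallyOfFiniteType f := locallyOfFiniteType_of_comp f G.hom
  haveI : LocallyOfFinitePresentation (f ≫ G.hom) := by rw [Over.w]; infer_instance
  haveI : LocallyOfFinitePresentation f :=
    GrothLib.DiagGrp.lfp_of_comp_of_lft f G.hom inferInstance inferInstance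
  haveI : IsLocallyNoetherian G.left := LocallyOfFiniteType.isLocallyNoetherian G.hom
  let σ : Spec (CommRingCat.of K) ⟶ G.left := η[G].left
  have hσ : σ ≫ G.hom = 𝟙 _ := Over.w η[G]
  have hσf : σ ≫ f = σ := congrArg Over.Hom.left (unit_comp_pow G n)
  let e : G.left := σ (closedPoint K)
  have he : f e = e := congrArg (fun t => t (closedPoint K)) hσf
  let φ := f.stalkMap e
  let c := Spec.preimage (G.left.fromSpecStalk (f e) ≫ G.hom)
  have hcs : Spec.map c = G.left.fromSpecStalk (f e) ≫ G.hom := Spec.map_preimage _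
  let π := Scheme.stalkClosedPointTo σ
  have hπ : Spec.map π ≫ G.left.fromSpecStalk e = σ := Scheme.Spec_stalkClosedPointTo_fromSpecStalk σ
  have hφ : Spec.map φ ≫ G.left.fromSpecStalk (f e) = G.left.fromSpecStalk e ≫ f :=
    Scheme.SpecMap_stalkMap_fromSpecStalk f
  have hπc' : c ≫ φ ≫ π = 𝟙 _ := Spec.map_injective (by
    rw [Spec.map_comp, Spec.map_comp, Spec.map_id, Category.assoc, hcs, ← Category.assoc (Spec.map φ), hφ,
      Category.assoc, ← Category.assoc, hπ, Over.w, hσ])
  have hπc : π.hom.comp (φ.hom.comp c.hom) = RingHom.id K := congrArg (fun t => t.hom) hπc'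
  have hker : RingHom.ker π.hom = maximalIdeal (G.left.presheaf.stalk e) := by
    haveI := RingHom.ker_isMaximal_of_surjective π.hom fun x => ⟨φ.hom (c.hom x), RingHom.congr_fun hπc x⟩
    exact IsLocalRing.eq_maximalIdeal ‹_›
  have hloc : (maximalIdeal (G.left.presheaf.stalk (f e))).map φ.hom ≤ maximalIdeal _ := by
    haveI : IsLocalHom φ.hom := inferInstanceAs (IsLocalHom (f.stalkMap e).hom)
    exact ((IsLocalRing.local_hom_TFAE φ.hom).out 0 2).1 ‹_›
  have hv : ∀ D : G.left.presheaf.stalk e →+* TrivSqZeroExt K K, (∀ a, (D a).fst = π.hom a) →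
      (∀ x, D (φ.hom (c.hom x)) = TrivSqZeroExt.inl x) → (∀ r, (D (φ.hom r)).snd = 0) →
        ∀ a, (D a).snd = 0 := by
    intro D hfst hinl hsnd
    have e1 : Spec.map (CommRingCat.ofHom D) ≫ G.left.fromSpecStalk e ≫ G.hom = dualHom K K ≫ 𝟙 _ := by
      have : CommRingCat.ofHom (TrivSqZeroExt.inlHom K K) = c ≫ φ ≫ CommRingCat.ofHom D :=
        CommRingCat.hom_ext (RingHom.ext fun x => (hinl x).symm)
      rw [Category.comp_id, dualHom, this, Spec.map_comp, Spec.map_comp, Category.assoc, hcs,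
        ← Category.assoc (Spec.map φ), hφ, Category.assoc, Over.w]
      rfl
    let x : dualOver (𝟙 (Spec (CommRingCat.of K))) K ⟶ G :=
      Over.homMk (Spec.map (CommRingCat.ofHom D) ≫ G.left.fromSpecStalk e) (by
        rw [Category.assoc]; exact e1)
    have h1left : ∀ Y : Over (Spec (CommRingCat.of K)), (1 : Y ⟶ G).left = Y.hom ≫ σ := fun Y => by
      rw [Hom.one_def, Over.comp_left, Over.toUnit_left]
    have hc0 : overPt (𝟙 (Spec (CommRingCat.of K))) ≫ x = 1 := by
      refine Over.OverMorphism.ext ?_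
      rw [h1left, Over.comp_left]
      show dualPt K K ≫ Spec.map (CommRingCat.ofHom D) ≫ G.left.fromSpecStalk e = 𝟙 _ ≫ σ
      rw [Category.id_comp, ← Category.assoc, dualPt, ← Spec.map_comp, ← hπ]
      exact congrArg (fun t => Spec.map t ≫ G.left.fromSpecStalk e)
        (CommRingCat.hom_ext (RingHom.ext fun a => hfst a))
    have hDφ : φ ≫ CommRingCat.ofHom D = φ ≫ π ≫ CommRingCat.ofHom (TrivSqZeroExt.inlHom K K) :=
      CommRingCat.hom_ext (RingHom.ext fun a => TrivSqZeroExt.ext (hfst _) (hsnd a))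
    have hpow : x ^ (n : ℤ) = 1 := by
      refine Over.OverMorphism.ext ?_
      rw [h1left, ← Category.comp_id x, ← GrpObj.comp_zpow, zpow_natCast, Over.comp_left]
      show (Spec.map (CommRingCat.ofHom D) ≫ G.left.fromSpecStalk e) ≫ f = (dualHom K K ≫ 𝟙 _) ≫ σ
      rw [Category.assoc, ← hφ, ← Category.assoc, ← Spec.map_comp]
      refine (congrArg (fun t => Spec.map t ≫ G.left.fromSpecStalk (f e)) hDφ).trans ?_
      rw [Spec.map_comp, Spec.map_comp, Category.assoc, Category.assoc, hφ, ← Category.assoc (Spec.map π), hπ,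
        hσf, Category.comp_id]
    have hx1 := congrArg Over.Hom.left (eq_one_of_zpow_eq_one (𝟙 _) x hc0 n (by simpa using hn) hpow)
    rw [h1left] at hx1
    have : CommRingCat.ofHom D = π ≫ CommRingCat.ofHom (TrivSqZeroExt.inlHom K K) := Spec.map_injective (by
      rw [← cancel_mono (G.left.fromSpecStalk e), Spec.map_comp, Category.assoc, hπ]
      exact hx1.trans (congrArg (· ≫ σ) (Category.comp_id _)))
    intro a
    rw [show D a = TrivSqZeroExt.inl (π.hom a) from congrArg (fun t => t.hom a) this]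
    simp
  have hmap := EndoLocal.map_maximalIdeal φ.hom c.hom π.hom hπc hker hloc hv
  have hflat := EndoLocal.flat φ.hom c.hom π.hom
    (G.left.presheaf.stalkCongr (Inseparable.of_eq he)).commRingCatIsoToRingEquiv hπc hker hmap
  have hfu := EndoLocal.formallyUnramified φ.hom c.hom π.hom hπc hker hmap (by
    show letI := φ.hom.toAlgebra; Algebra.EssFiniteType _ _
    exact LocallyOfFiniteType.stalkMap f e)
  obtain ⟨U, heU, hU⟩ := (GrothLib.LocProp.etale_nhd_iff f e).2 ⟨hflat, hfu⟩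
  exact ⟨U, fun p => by
    rw [Subsingleton.elim (α := PrimeSpectrum K) p (closedPoint K)]; exact heU, hU⟩

/-- The power map is etale near a central rational point. -/
theorem exists_etale_pow_central [LocallyOfFiniteType G.hom] (n : ℕ) (hn : (n : K) ≠ 0)
    (g : 𝟙_ (Over (Spec (CommRingCat.of K))) ⟶ G)
    (hg : ∀ (X : Over (Spec (CommRingCat.of K))) (x : X ⟶ G), (toUnit X ≫ g) * x = x * (toUnit X ≫ g)) :
    ∃ U : G.left.Opens, Set.range g.left ⊆ (U : Set ↥G.left) ∧ Etale (U.ι ≫ (𝟙 G ^ n).left) := by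
  obtain ⟨U, hU1, hU⟩ := exists_etale_pow_unit G n hn
  let L : (𝟙_ (Over (Spec (CommRingCat.of K))) ⟶ G) → (G ⟶ G) := fun h => (toUnit G ≫ h) * 𝟙 G
  have hL : ∀ {Y : Over (Spec (CommRingCat.of K))} (h) (y : Y ⟶ G), y ≫ L h = (toUnit Y ≫ h) * y :=
    fun h y => by simp [L, MonObj.comp_mul]
  let iso : (𝟙_ (Over (Spec (CommRingCat.of K))) ⟶ G) → (G.left ≅ G.left) := fun h =>
    (Over.forget _).mapIso
      { hom := L h
        inv := L h⁻¹
        hom_inv_id := by rw [hL]; simp [L, GrpObj.comp_inv]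
        inv_hom_id := by rw [hL]; simp [L, GrpObj.comp_inv] }
  have hcomm : (iso g⁻¹).hom ≫ (𝟙 G ^ n).left = (𝟙 G ^ n).left ≫ (iso (g⁻¹ ^ n)).hom := by
    show (L g⁻¹).left ≫ _ = _ ≫ (L (g⁻¹ ^ n)).left
    rw [← Over.comp_left, ← Over.comp_left]
    congr 1
    rw [hL, ← zpow_natCast (𝟙 G), GrpObj.comp_zpow, Category.comp_id]
    show ((toUnit G ≫ g⁻¹) * 𝟙 G) ^ (n : ℤ) = _
    have hc : Commute (toUnit G ≫ g⁻¹) (𝟙 G) := by
      rw [GrpObj.comp_inv]
      exact Commute.inv_left (hg G (𝟙 G))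
    rw [hc.mul_zpow]
    congr 1
    rw [← zpow_natCast g⁻¹, GrpObj.comp_zpow]
  refine ⟨(iso g⁻¹).hom ⁻¹ᵁ U, ?_,
    GrothLib.FibreLocus.prop_translate_open @Etale _ (iso g⁻¹) (iso (g⁻¹ ^ n)) hcomm U hU⟩
  rintro _ ⟨p, rfl⟩
  show (L g⁻¹).left (g.left p) ∈ U
  have : g ≫ L g⁻¹ = η[G] := by
    rw [hL, show toUnit (𝟙_ (Over (Spec (CommRingCat.of K)))) = 𝟙 _ from toUnit_unique _ _, Category.id_comp,
      inv_mul_cancel, Hom.one_def, show toUnit (𝟙_ (Over (Spec (CommRingCat.of K)))) = 𝟙 _ from toUnit_unique _ _,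
      Category.id_comp]
  rw [← Scheme.Hom.comp_apply, ← Over.comp_left, this]
  exact hU1 p

/-- On a commutative group locally of finite type the power map is etale. -/
theorem etale_pow_of_comm [IsCommMonObj G] [LocallyOfFiniteType G.hom] (n : ℕ) (hn : (n : K) ≠ 0) :
    Etale (𝟙 G ^ n).left := by
  obtain ⟨U, hU1, hU⟩ := exists_etale_pow_unit G n hn
  haveI : IsMonHom (𝟙 G ^ n) := by rw [← zpow_natCast]; exact isMonHom_zpow G n
  exact GrothLib.FibreLocus.prop_of_nhd @Etale (𝟙 G ^ n) U ⟨_, hU1 (closedPoint K)⟩ hU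

end GrothLib.AbMul
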