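import Mathlib.AlgebraicGeometry.Morphisms.FormallyUnramified
import Mathlib.AlgebraicGeometry.Morphisms.FiniteType
import Mathlib.AlgebraicGeometry.AffineScheme
import Mathlib.Algebra.TrivSqZeroExt.Basic
import Mathlib.CategoryTheory.Monoidal.Cartesian.Grp
import Mathlib.CategoryTheory.Monoidal.Cartesian.Over
import Mathlib.RingTheory.Unramified.Basic
import Mathlib.RingTheory.Kaehler.Basic
import Mathlib.RingTheory.Support

/-!
# The power map on tangent vectors of a group scheme

For a field `L` and an `L`-module `M`, points with values in `L ⊕ M` that reduce to the unit are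
raised to the `n`-th power by the map `n • 𝟙 M`.
-/

universe u

open CategoryTheory Limits AlgebraicGeometry TensorProduct
open MonoidalCategory CartesianMonoidalCategory MonObj

namespace GrothLib.AbMul

section
variable (L : Type u) [Field L] (M N : Type u) [AddCommGroup M] [Module L M] [Module Lᵐᵒᵖ M]
  [IsCentralScalar L M] [AddCommGroup N] [Module L N] [Module Lᵐᵒᵖ N] [IsCentralScalar L N]

/-- `Spec (L ⊕ M)`. -/
noncomputable abbrev dual : Scheme.{u} := Spec (CommRingCat.of (TrivSqZeroExt L M))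

/-- The projection `Spec (L ⊕ M) ⟶ Spec L`. -/
noncomputable abbrev dualHom : dual L M ⟶ Spec (CommRingCat.of L) :=
  Spec.map (CommRingCat.ofHom (TrivSqZeroExt.inlHom L M))

/-- The closed point `Spec L ⟶ Spec (L ⊕ M)`. -/
noncomputable abbrev dualPt : Spec (CommRingCat.of L) ⟶ dual L M :=
  Spec.map (CommRingCat.ofHom (TrivSqZeroExt.fstHom L L M).toRingHom)

variable {M N} in
/-- The morphism induced by a linear map. -/
noncomputable abbrev dualMap (φ : M →ₗ[L] N) : dual L N ⟶ dual L M :=
  Spec.map (CommRingCat.ofHom (TrivSqZeroExt.map φ).toRingHom)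

theorem dualPt_dualHom : dualPt L M ≫ dualHom L M = 𝟙 _ := by
  rw [← Spec.map_comp, ← Spec.map_id]
  exact congrArg Spec.map (CommRingCat.hom_ext (RingHom.ext fun _ => rfl))

variable {M N}

theorem dualMap_dualHom (φ : M →ₗ[L] N) : dualMap L φ ≫ dualHom L M = dualHom L N := by
  rw [← Spec.map_comp]
  exact congrArg Spec.map (CommRingCat.hom_ext (RingHom.ext fun x => TrivSqZeroExt.map_inl φ x))

theorem dualPt_dualMap (φ : M →ₗ[L] N) : dualPt L N ≫ dualMap L φ = dualPt L M := by
  rw [← Spec.map_comp]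
  refine congrArg Spec.map (CommRingCat.hom_ext (RingHom.ext fun x => ?_))
  exact TrivSqZeroExt.fst_map φ x

theorem dualMap_comp {P : Type u} [AddCommGroup P] [Module L P] [Module Lᵐᵒᵖ P] [IsCentralScalar L P]
    (φ : M →ₗ[L] N) (ψ : N →ₗ[L] P) : dualMap L ψ ≫ dualMap L φ = dualMap L (ψ.comp φ) := by
  rw [← Spec.map_comp]
  show _ = Spec.map (CommRingCat.ofHom (TrivSqZeroExt.map (ψ.comp φ)).toRingHom)
  rw [TrivSqZeroExt.map_comp_map]
  rfl

theorem dualMap_id : dualMap L (LinearMap.id : M →ₗ[L] M) = 𝟙 _ := by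
  rw [← Spec.map_id]
  exact congrArg Spec.map (by rw [TrivSqZeroExt.map_id]; rfl)

theorem dualMap_zero : dualMap L (0 : M →ₗ[L] N) = dualHom L N ≫ dualPt L M := by
  rw [← Spec.map_comp]
  refine congrArg Spec.map (CommRingCat.hom_ext (RingHom.ext fun x => ?_))
  show TrivSqZeroExt.map (0 : M →ₗ[L] N) x = TrivSqZeroExt.inl x.fst
  induction x using TrivSqZeroExt.ind with
  | inl_add_inr r m => simp [TrivSqZeroExt.map_inl, TrivSqZeroExt.map_inr]

instance : Subsingleton ↥(dual L M) := by
  refine ⟨fun p q => PrimeSpectrum.ext ?_⟩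
  have h : ∀ p : PrimeSpectrum (TrivSqZeroExt L M), p.asIdeal =
      RingHom.ker (TrivSqZeroExt.fstHom L L M).toRingHom := by
    intro p
    have hle : RingHom.ker (TrivSqZeroExt.fstHom L L M).toRingHom ≤ p.asIdeal := fun x hx => by
      refine p.isPrime.mem_of_pow_mem 2 ?_
      have h1 : x.fst = 0 := hx
      have : x ^ 2 = 0 := by
        rw [pow_two]
        exact TrivSqZeroExt.ext (by simp [h1]) (by simp [h1])
      rw [this]
      exact zero_mem _
    haveI : (RingHom.ker (TrivSqZeroExt.fstHom L L M).toRingHom).IsMaximal :=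
      RingHom.ker_isMaximal_of_surjective _ TrivSqZeroExt.fst_surjective
    exact ((Ideal.IsMaximal.eq_of_le ‹_› p.isPrime.ne_top hle)).symm
  rw [h p, h q]

theorem range_dualPt : Set.range (dualPt L M) = Set.univ :=
  Set.eq_univ_of_forall fun _ => ⟨IsLocalRing.closedPoint L, Subsingleton.elim _ _⟩

/-- Two points with values in `L ⊕ (M × N)` with the same projections agree. -/
theorem hom_ext_prod {X : Scheme.{u}} (z z' : dual L (M × N) ⟶ X)
    (h₁ : dualMap L (LinearMap.fst L M N) ≫ z = dualMap L (LinearMap.fst L M N) ≫ z')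
    (h₂ : dualMap L (LinearMap.snd L M N) ≫ z = dualMap L (LinearMap.snd L M N) ≫ z') : z = z' := by
  let o : ↥(dual L (M × N)) := dualPt L (M × N) (IsLocalRing.closedPoint L)
  have ho : z o = z' o := by
    have h := congrArg (fun q : Spec (CommRingCat.of L) ⟶ X => q (IsLocalRing.closedPoint L))
      (congrArg (fun q => dualPt L M ≫ q) h₁)
    simp only [← Category.assoc, dualPt_dualMap] at h
    exact h
  obtain ⟨_, ⟨(V : X.Opens), hV, rfl⟩, hzV, -⟩ :=
    X.isBasis_affineOpens.exists_subset_of_mem_open (Set.mem_univ (z o)) isOpen_univ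
  haveI : IsAffine V := hV
  have hr : ∀ w : dual L (M × N) ⟶ X, w o ∈ V → Set.range w ⊆ Set.range V.ι := by
    rintro w hw _ ⟨x, rfl⟩
    rw [Scheme.Opens.range_ι, Subsingleton.elim x o]
    exact hw
  let zV := IsOpenImmersion.lift V.ι z (hr z hzV)
  let zV' := IsOpenImmersion.lift V.ι z' (hr z' (ho ▸ hzV))
  suffices zV = zV' by
    rw [← IsOpenImmersion.lift_fac V.ι z (hr z hzV), ← IsOpenImmersion.lift_fac V.ι z' (hr z' (ho ▸ hzV))]
    exact congrArg (· ≫ V.ι) this
  have hc : ∀ {P : Type u} [AddCommGroup P] [Module L P] [Module Lᵐᵒᵖ P] [IsCentralScalar L P]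
      (φ : (M × N) →ₗ[L] P), dualMap L φ ≫ z = dualMap L φ ≫ z' →
      dualMap L φ ≫ zV = dualMap L φ ≫ zV' := by
    intro P _ _ _ _ φ hφ
    rw [← cancel_mono V.ι, Category.assoc, Category.assoc, IsOpenImmersion.lift_fac,
      IsOpenImmersion.lift_fac, hφ]
  rw [← cancel_mono (V : Scheme.{u}).isoSpec.hom]
  obtain ⟨a, ha⟩ : ∃ a, Spec.map a = zV ≫ (V : Scheme.{u}).isoSpec.hom := ⟨Spec.preimage _, Spec.map_preimage _⟩
  obtain ⟨b, hb⟩ : ∃ b, Spec.map b = zV' ≫ (V : Scheme.{u}).isoSpec.hom := ⟨Spec.preimage _, Spec.map_preimage _⟩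
  rw [← ha, ← hb]
  refine congrArg Spec.map (CommRingCat.hom_ext (RingHom.ext fun r => ?_))
  have h₁' := congrArg (· ≫ (V : Scheme.{u}).isoSpec.hom) (hc (LinearMap.fst L M N) h₁)
  have h₂' := congrArg (· ≫ (V : Scheme.{u}).isoSpec.hom) (hc (LinearMap.snd L M N) h₂)
  simp only [Category.assoc, ← ha, ← hb, ← Spec.map_comp] at h₁' h₂'
  have e₁ : TrivSqZeroExt.map (LinearMap.fst L M N) (a r) = TrivSqZeroExt.map (LinearMap.fst L M N) (b r) :=
    congrArg (fun q => q r) (Spec.map_injective h₁')
  have e₂ : TrivSqZeroExt.map (LinearMap.snd L M N) (a r) = TrivSqZeroExt.map (LinearMap.snd L M N) (b r) :=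
    congrArg (fun q => q r) (Spec.map_injective h₂')
  refine TrivSqZeroExt.ext ?_ (Prod.ext ?_ ?_)
  · simpa using congrArg TrivSqZeroExt.fst e₁
  · simpa using congrArg TrivSqZeroExt.snd e₁
  · simpa using congrArg TrivSqZeroExt.snd e₂

end

section
variable {S : Scheme.{u}} {L : Type u} [Field L] (j : Spec (CommRingCat.of L) ⟶ S) {M : Type u} [AddCommGroup M]
  [Module L M] [Module Lᵐᵒᵖ M] [IsCentralScalar L M]

/-- `Spec (L ⊕ M)` over `S`. -/
noncomputable abbrev dualOver (M : Type u) [AddCommGroup M] [Module L M] [Module Lᵐᵒᵖ M]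
    [IsCentralScalar L M] : Over S :=
  Over.mk (dualHom L M ≫ j)

/-- `dualMap` over `S`. -/
noncomputable abbrev overMap {N : Type u} [AddCommGroup N] [Module L N] [Module Lᵐᵒᵖ N]
    [IsCentralScalar L N] (φ : M →ₗ[L] N) : dualOver j N ⟶ dualOver j M :=
  Over.homMk (dualMap L φ) (by
    show dualMap L φ ≫ dualHom L M ≫ j = dualHom L N ≫ j
    rw [← Category.assoc, dualMap_dualHom])

/-- The closed point over `S`. -/
noncomputable abbrev overPt : Over.mk j ⟶ dualOver j M :=
  Over.homMk (dualPt L M) (by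
    show dualPt L M ≫ dualHom L M ≫ j = j
    rw [← Category.assoc, dualPt_dualHom, Category.id_comp])

variable {G : Over S} [GrpObj G] (c : dualOver j M ⟶ G) (hc : overPt j ≫ c = 1)
include hc

theorem overMap_zero_comp {N : Type u} [AddCommGroup N] [Module L N] [Module Lᵐᵒᵖ N]
    [IsCentralScalar L N] : overMap j (0 : M →ₗ[L] N) ≫ c = 1 := by
  let π : dualOver j N ⟶ Over.mk j := Over.homMk (dualHom L N) rfl
  have : overMap j (0 : M →ₗ[L] N) = π ≫ overPt j := Over.OverMorphism.ext (dualMap_zero L)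
  rw [this, Category.assoc, hc, MonObj.comp_one]

theorem overMap_add_comp (a b : M →ₗ[L] M) :
    overMap j (a + b) ≫ c = (overMap j a ≫ c) * (overMap j b ≫ c) := by
  have hcomp : ∀ {P Q : Type u} [AddCommGroup P] [Module L P] [Module Lᵐᵒᵖ P] [IsCentralScalar L P]
      [AddCommGroup Q] [Module L Q] [Module Lᵐᵒᵖ Q] [IsCentralScalar L Q]
      (φ : M →ₗ[L] P) (ψ : P →ₗ[L] Q),
      overMap j ψ ≫ overMap j φ ≫ c = overMap j (ψ.comp φ) ≫ c := fun φ ψ => by
    rw [← Category.assoc]
    exact congrArg (· ≫ c) (Over.OverMorphism.ext (dualMap_comp L φ ψ))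
  let z : dualOver j (M × M) ⟶ G :=
    (overMap j ((LinearMap.inl L M M).comp a) ≫ c) * (overMap j ((LinearMap.inr L M M).comp b) ≫ c)
  have hz : overMap j (a.prod b) ≫ c = z := by
    refine Over.OverMorphism.ext (hom_ext_prod L _ _ ?_ ?_)
    · have h : overMap j (LinearMap.fst L M M) ≫ overMap j (a.prod b) ≫ c =
          overMap j (LinearMap.fst L M M) ≫ z := by
        rw [MonObj.comp_mul, hcomp, hcomp, hcomp, ← LinearMap.comp_assoc, ← LinearMap.comp_assoc,
          LinearMap.fst_prod, LinearMap.fst_comp_inl, LinearMap.fst_comp_inr, LinearMap.id_comp,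
          LinearMap.zero_comp, overMap_zero_comp j c hc, _root_.mul_one]
      exact congrArg Over.Hom.left h
    · have h : overMap j (LinearMap.snd L M M) ≫ overMap j (a.prod b) ≫ c =
          overMap j (LinearMap.snd L M M) ≫ z := by
        rw [MonObj.comp_mul, hcomp, hcomp, hcomp, ← LinearMap.comp_assoc, ← LinearMap.comp_assoc,
          LinearMap.snd_prod, LinearMap.snd_comp_inl, LinearMap.snd_comp_inr, LinearMap.id_comp,
          LinearMap.zero_comp, overMap_zero_comp j c hc, _root_.one_mul]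
      exact congrArg Over.Hom.left h
  have h := congrArg (fun q => overMap j (LinearMap.fst L M M + LinearMap.snd L M M) ≫ q) hz
  simp only [z, MonObj.comp_mul, hcomp] at h
  convert h using 4 <;> ext x <;> simp

theorem pow_eq (n : ℕ) : c ^ n = overMap j ((n : L) • (LinearMap.id : M →ₗ[L] M)) ≫ c := by
  induction n with
  | zero => rw [pow_zero, Nat.cast_zero, zero_smul, overMap_zero_comp j c hc]
  | succ n ih =>
    rw [pow_succ, ih, Nat.cast_succ, add_smul, one_smul, overMap_add_comp j c hc]
    congr 1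
    conv_lhs => rw [← Category.id_comp c]
    exact congrArg (· ≫ c) (Over.OverMorphism.ext (dualMap_id L).symm)

theorem eq_one_of_zpow_eq_one (n : ℤ) (hn : (n : L) ≠ 0) (h : c ^ n = 1) : c = 1 := by
  obtain ⟨m, hm⟩ := Int.eq_nat_or_neg n
  have hm' : c ^ m = 1 ∧ (m : L) ≠ 0 := by
    rcases hm with rfl | rfl
    · exact ⟨by simpa using h, by simpa using hn⟩
    · exact ⟨by simpa using h, by simpa using hn⟩
  rw [pow_eq j c hc] at hm'
  have h1 : overMap j ((m : L) • (LinearMap.id : M →ₗ[L] M)) ≫ c = 1 := hm'.1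
  have h2 := congrArg (fun q => overMap j ((m : L)⁻¹ • (LinearMap.id : M →ₗ[L] M)) ≫ q) h1
  simp only [MonObj.comp_one] at h2
  refine Eq.trans ?_ h2
  rw [← Category.assoc]
  conv_lhs => rw [← Category.id_comp c]
  refine congrArg (· ≫ c) (Over.OverMorphism.ext ?_)
  show 𝟙 _ = dualMap L _ ≫ dualMap L _
  rw [dualMap_comp, LinearMap.smul_comp, LinearMap.id_comp, smul_smul, inv_mul_cancel₀ hm'.2, one_smul,
    dualMap_id]

theorem zpow_eq_one_of_cast_eq_zero (n : ℤ) (hn : (n : L) = 0) : c ^ n = 1 := by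
  obtain ⟨m, hm⟩ := Int.eq_nat_or_neg n
  have key : ∀ m : ℕ, (m : L) = 0 → c ^ m = 1 := fun m hm => by
    rw [pow_eq j c hc, hm, zero_smul, overMap_zero_comp j c hc]
  rcases hm with rfl | rfl
  · rw [zpow_natCast, key m (by simpa using hn)]
  · rw [zpow_neg, zpow_natCast, key m (by simpa using hn), inv_one]

end

/-- An algebra of finite type is unramified if its points with values in `L ⊕ M` are determined by
their reductions. -/
theorem formallyUnramified_of_points {R A : Type u} [CommRing R] [CommRing A] [Algebra R A]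
    [Algebra.EssFiniteType R A]
    (h : ∀ (L : Type u) [Field L] (M : Type u) [AddCommGroup M] [Module L M] [Module Lᵐᵒᵖ M]
      [IsCentralScalar L M] (x y : A →+* TrivSqZeroExt L M),
      x.comp (algebraMap R A) = y.comp (algebraMap R A) → (∀ a, (x a).fst = (y a).fst) →
      (∀ a, x a = TrivSqZeroExt.inl (x a).fst) → x = y) :
    Algebra.FormallyUnramified R A := by
  rw [Algebra.formallyUnramified_iff, ← Module.support_eq_empty_iff (R := A), Set.eq_empty_iff_forall_notMem]
  intro q hq
  rw [Module.mem_support_iff_nontrivial_residueField_tensorProduct] at hq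
  set L := q.asIdeal.ResidueField
  refine not_subsingleton_iff_nontrivial.mpr hq ?_
  let d : A → L ⊗[A] Ω[A⁄R] := fun a => (1 : L) ⊗ₜ KaehlerDifferential.D R A a
  let x : A →+* TrivSqZeroExt L (L ⊗[A] Ω[A⁄R]) := (TrivSqZeroExt.inlHom L _).comp (algebraMap A L)
  let y : A →+* TrivSqZeroExt L (L ⊗[A] Ω[A⁄R]) :=
    { toFun := fun a => TrivSqZeroExt.inl (algebraMap A L a) + TrivSqZeroExt.inr (d a)
      map_one' := by ext <;> simp [d]
      map_zero' := by ext <;> simp [d]
      map_add' := fun a b => by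
        simp only [map_add, d, TensorProduct.tmul_add, TrivSqZeroExt.inl_add]
        apply TrivSqZeroExt.ext <;> simp <;> abel
      map_mul' := fun a b => by
        apply TrivSqZeroExt.ext
        · simp
        · simp only [TrivSqZeroExt.snd_mul, TrivSqZeroExt.fst_add, TrivSqZeroExt.snd_add, TrivSqZeroExt.fst_inl,
            TrivSqZeroExt.fst_inr, TrivSqZeroExt.snd_inl, TrivSqZeroExt.snd_inr, zero_add, add_zero,
            op_smul_eq_smul, d, Derivation.leibniz, TensorProduct.tmul_add, TensorProduct.smul_tmul']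
          congr 1 <;> rw [← TensorProduct.smul_tmul, ← TensorProduct.smul_tmul' ] <;>
            simp [Algebra.smul_def, TensorProduct.smul_tmul'] }
  have hxy : x = y := h L _ x y (RingHom.ext fun r => by
      change TrivSqZeroExt.inl (algebraMap A L (algebraMap R A r)) =
        TrivSqZeroExt.inl (algebraMap A L (algebraMap R A r)) + TrivSqZeroExt.inr (d (algebraMap R A r))
      simp [d]) (fun a => by simp [x, y]) (fun a => by simp [x])
  have hd : ∀ a, d a = 0 := fun a => by
    have := congrArg TrivSqZeroExt.snd (RingHom.congr_fun hxy a)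
    simpa [x, y] using this.symm
  refine ⟨fun a b => ?_⟩
  suffices ∀ t : L ⊗[A] Ω[A⁄R], t = 0 by rw [this a, this b]
  intro t
  induction t with
  | zero => rfl
  | add s t hs ht => rw [hs, ht, add_zero]
  | tmul l w =>
    have hw : w ∈ Submodule.span A (Set.range (KaehlerDifferential.D R A)) := by
      rw [KaehlerDifferential.span_range_derivation]; trivial
    induction hw using Submodule.span_induction with
    | mem z hz =>
      obtain ⟨a, rfl⟩ := hz
      have := congrArg (l • ·) (hd a)
      simpa [d, TensorProduct.smul_tmul'] using this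
    | zero => simp
    | add u v _ _ hu hv => rw [TensorProduct.tmul_add, hu, hv, add_zero]
    | smul r u _ hu => rw [TensorProduct.tmul_smul, hu, smul_zero]

/-- A morphism locally of finite type is unramified if its points with values in `L ⊕ M` are
determined by their reductions. -/
theorem formallyUnramified_of_dual_points {X Y : Scheme.{u}} (f : X ⟶ Y) [LocallyOfFiniteType f]
    (h : ∀ (L : Type u) [Field L] (M : Type u) [AddCommGroup M] [Module L M] [Module Lᵐᵒᵖ M]
      [IsCentralScalar L M] (x y : dual L M ⟶ X), x = dualHom L M ≫ dualPt L M ≫ x →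
      x ≫ f = y ≫ f → dualPt L M ≫ x = dualPt L M ≫ y → x = y) :
    FormallyUnramified f := by
  refine HasRingHomProperty.iff_appLE.mpr fun U V e => ?_
  have hft : (f.appLE U.1 V.1 e).hom.FiniteType := f.finiteType_appLE U.2 V.2 e
  algebraize [(f.appLE U.1 V.1 e).hom]
  refine formallyUnramified_of_points fun L _ M _ _ _ _ x y hxy hfst hx => ?_
  have key := h L M (Spec.map (CommRingCat.ofHom x) ≫ V.2.fromSpec) (Spec.map (CommRingCat.ofHom y) ≫ V.2.fromSpec)
    (by
      rw [← Spec.map_comp_assoc, ← Spec.map_comp_assoc]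
      exact congrArg (fun q => Spec.map (CommRingCat.ofHom q) ≫ V.2.fromSpec) (RingHom.ext hx))
    (by
      rw [Category.assoc, Category.assoc, ← IsAffineOpen.SpecMap_appLE_fromSpec f U.2 V.2 e,
        ← Spec.map_comp_assoc, ← Spec.map_comp_assoc]
      exact congrArg (fun q => Spec.map (CommRingCat.ofHom q) ≫ U.2.fromSpec) hxy)
    (by
      rw [← Spec.map_comp_assoc, ← Spec.map_comp_assoc]
      exact congrArg (fun q => Spec.map (CommRingCat.ofHom q) ≫ V.2.fromSpec) (RingHom.ext hfst))
  rw [cancel_mono] at key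
  exact congrArg CommRingCat.Hom.hom (Spec.map_injective key)

end GrothLib.AbMul
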