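import Groth.Agent.Lib.AbMul.Etale
import Groth.Agent.Lib.EtBasicB.Sections
import Groth.Agent.Lib.Rigidity.PointsExt

/-!
# Torsion points of abelian varieties and étale coverings by multiplication maps
-/

universe u

open CategoryTheory Limits AlgebraicGeometry
open MonoidalCategory CartesianMonoidalCategory MonObj

namespace GrothLib.AbMul

/-- Lifts along an unramified separated morphism from a connected scheme agreeing at a point agree. -/
theorem eq_of_agree_at_point {X Y Z T : Scheme.{u}} (f : X ⟶ Y) [FormallyUnramified f] [LocallyOfFiniteType f]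
    [IsSeparated f] [PreconnectedSpace Z] (g₁ g₂ : Z ⟶ X) (h : g₁ ≫ f = g₂ ≫ f) (e : T ⟶ Z) [Nonempty T]
    (he : e ≫ g₁ = e ≫ g₂) : g₁ = g₂ := by
  let p := pullback.lift g₁ g₂ h
  have hc : IsClopen (p.base ⁻¹' Set.range (pullback.diagonal f)) :=
    ⟨(pullback.diagonal f).isClosedEmbedding.isClosed_range.preimage p.continuous,
      (pullback.diagonal f).isOpenEmbedding.isOpen_range.preimage p.continuous⟩
  obtain ⟨t⟩ := ‹Nonempty T›
  have hne : (p.base ⁻¹' Set.range (pullback.diagonal f)).Nonempty := by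
    refine ⟨e t, g₁ (e t), ?_⟩
    have : e ≫ g₁ ≫ pullback.diagonal f = e ≫ p := by
      apply pullback.hom_ext
      · simp only [p, Category.assoc, pullback.diagonal_fst, Category.comp_id]
        exact congrArg (e ≫ ·) (pullback.lift_fst g₁ g₂ h).symm
      · simp only [p, Category.assoc, pullback.diagonal_snd, Category.comp_id]
        exact he.trans (congrArg (e ≫ ·) (pullback.lift_snd g₁ g₂ h).symm)
    exact congrArg (fun q => q t) this
  have hp : Set.range p ⊆ Set.range (pullback.diagonal f) := by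
    rintro _ ⟨z, rfl⟩
    exact (hc.eq_univ hne).ge (Set.mem_univ z)
  let l := IsOpenImmersion.lift (pullback.diagonal f) p hp
  have hl : l ≫ pullback.diagonal f = p := IsOpenImmersion.lift_fac _ _ _
  have h1 := congrArg (· ≫ pullback.fst f f) hl
  have h2 := congrArg (· ≫ pullback.snd f f) hl
  simp only [p, Category.assoc, pullback.diagonal_fst, pullback.diagonal_snd, Category.comp_id,
    pullback.lift_fst, pullback.lift_snd] at h1 h2
  exact h1.symm.trans h2

/-- Over an algebraically closed field the points of a finite étale scheme with values in any field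
extension are rational. -/
theorem exists_eq_comp_point {k Ω : Type u} [Field k] [IsAlgClosed k] [Field Ω] {N : Scheme.{u}}
    (q : N ⟶ Spec (CommRingCat.of k)) [Etale q] [IsFinite q] (c : Spec (CommRingCat.of Ω) ⟶ N) :
    ∃ P : Spec (CommRingCat.of k) ⟶ N, P ≫ q = 𝟙 _ ∧ c = c ≫ q ≫ P := by
  have hd : DiscreteTopology N := by
    haveI := IsLocallyArtinian.of_locallyQuasiFinite q
    exact IsLocallyArtinian.discreteTopology
  let x := c (IsLocalRing.closedPoint Ω)
  let P := pointOfClosedPoint q x (isClosed_discrete _)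
  have hP : P ≫ q = 𝟙 _ := pointOfClosedPoint_comp q x (isClosed_discrete _)
  haveI := GrothLib.EtBasicB.isOpenImmersion_section q P hP
  refine ⟨P, hP, ?_⟩
  let l := IsOpenImmersion.lift P c (by
    rintro _ ⟨o, rfl⟩
    refine ⟨IsLocalRing.closedPoint k, ?_⟩
    rw [Subsingleton.elim o (IsLocalRing.closedPoint Ω)]
    exact pointOfClosedPoint_apply q x (isClosed_discrete _) _)
  have hl : l ≫ P = c := IsOpenImmersion.lift_fac _ _ _
  rw [← hl]
  simp only [Category.assoc, reassoc_of% hP]

variable {k : Type u} [Field k] {A : Over (Spec (CommRingCat.of k))} [GrpObj A] [IsCommMonObj A]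

theorem one_def' {S : Scheme.{u}} (A : Over S) [GrpObj A] : η[A] = (1 : 𝟙_ (Over S) ⟶ A) := by
  rw [Hom.one_def, Subsingleton.elim (toUnit (𝟙_ (Over S))) (𝟙 _), Category.id_comp]

/-- An `n`-torsion point with values in a field extension is rational. -/
theorem exists_torsion_point [IsAlgClosed k] (n : ℤ) [IsFinite (𝟙 A ^ n).left] [Etale (𝟙 A ^ n).left]
    {Ω : Type u} [Field Ω] {b : Spec (CommRingCat.of Ω) ⟶ Spec (CommRingCat.of k)} (c : Over.mk b ⟶ A)
    (hc : c ^ n = 1) :
    ∃ a : 𝟙_ (Over (Spec (CommRingCat.of k))) ⟶ A, a ^ n = 1 ∧ c = toUnit _ ≫ a := by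
  set f := 𝟙 A ^ n
  let N := pullback f.left η[A].left
  let q : N ⟶ Spec (CommRingCat.of k) := pullback.snd f.left η[A].left
  have hcf : c.left ≫ f.left = b ≫ η[A].left := by
    have h : c ≫ f = 1 := by rw [GrpObj.comp_zpow, Category.comp_id, hc]
    rw [← Over.comp_left, h, Hom.one_def]
    exact congrArg (· ≫ η[A].left) ((Over.w (toUnit (Over.mk b))).symm.trans (Category.comp_id _)).symm
  let c' : Spec (CommRingCat.of Ω) ⟶ N := pullback.lift c.left b hcf
  obtain ⟨P, hP, hc'⟩ := exists_eq_comp_point q c'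
  have hPA : (P ≫ pullback.fst f.left η[A].left) ≫ A.hom = 𝟙 _ := by
    rw [← Over.w f, Category.assoc, pullback.condition_assoc, Over.w]
    simp only [q] at hP
    exact (Category.assoc _ _ _).symm.trans ((Category.comp_id _).trans hP)
  let a : 𝟙_ (Over (Spec (CommRingCat.of k))) ⟶ A := Over.homMk (P ≫ pullback.fst f.left η[A].left) hPA
  refine ⟨a, ?_, ?_⟩
  · have h : a ≫ f = η[A] := Over.OverMorphism.ext (by
      show (P ≫ pullback.fst f.left η[A].left) ≫ f.left = η[A].left
      rw [Category.assoc, pullback.condition, ← Category.assoc]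
      exact (congrArg (· ≫ η[A].left) hP).trans (Category.id_comp _))
    rw [GrpObj.comp_zpow, Category.comp_id] at h
    exact h.trans (one_def' A)
  · refine Over.OverMorphism.ext ?_
    have h := congrArg (· ≫ pullback.fst f.left η[A].left) hc'
    simp only [c', q, Category.assoc, pullback.lift_fst, pullback.lift_snd_assoc] at h
    rw [h]
    show b ≫ P ≫ _ = (toUnit (Over.mk b)).left ≫ P ≫ _
    exact congrArg (· ≫ P ≫ pullback.fst f.left η[A].left) ((Category.comp_id _).symm.trans (Over.w (toUnit (Over.mk b)))).symm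

/-- Translation by a torsion point commutes with the multiplication map. -/
theorem translate_comp_zpow (n : ℤ) (a : 𝟙_ (Over (Spec (CommRingCat.of k))) ⟶ A) (ha : a ^ n = 1) :
    (𝟙 A * (toUnit A ≫ a)) ≫ (𝟙 A ^ n) = 𝟙 A ^ n := by
  rw [GrpObj.comp_zpow, Category.comp_id, mul_zpow, ← GrpObj.comp_zpow, ha, MonObj.comp_one, _root_.mul_one]

theorem translate_comp_translate (a b : 𝟙_ (Over (Spec (CommRingCat.of k))) ⟶ A) :
    (𝟙 A * (toUnit A ≫ a)) ≫ (𝟙 A * (toUnit A ≫ b)) = 𝟙 A * (toUnit A ≫ (a * b)) := by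
  rw [MonObj.comp_mul, Category.comp_id, ← Category.assoc, Subsingleton.elim ((𝟙 A * (toUnit A ≫ a)) ≫ toUnit A) (toUnit A),
    MonObj.comp_mul, _root_.mul_assoc]

end GrothLib.AbMul
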