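import Groth.Agent.Lib.FFDesc.Basic
import Mathlib

/-!
# Torsion sections of a flat group scheme over a DVR with small ramification inject into the special fibre

If a translation `τ` of prime order `q` induces the identity modulo `π`, the operator `δ = τ - 1` on the
local ring at the unit satisfies `0 = ∑ C(q, j) δ ^ j`; this forces the image of `δ` into every power
of `π` when `v(q) + 1 < q`.
-/

universe u

open CategoryTheory Limits AlgebraicGeometry IsLocalRing
open MonoidalCategory CartesianMonoidalCategory MonObj GrpObj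

namespace GrothLib.AbMul

theorem add_one_pow_eq_one {R A : Type u} [CommRing R] [CommRing A] [Algebra R A] (π : R)
    (hreg : ∀ a : A, π • a = 0 → a = 0) (hsep : ∀ a : A, (∀ k : ℕ, ∃ b, a = π ^ k • b) → a = 0)
    (δ : Module.End R A) (hδ : ∀ a, ∃ b, δ a = π • b) (q : ℕ) (hq : q.Prime) (hqδ : (δ + 1) ^ q = 1)
    (w : Rˣ) (v : ℕ) (hqv : (q : R) = w * π ^ v) (hv : v + 2 ≤ q) : δ = 0 := by
  have hregk : ∀ (k : ℕ) (a : A), π ^ k • a = 0 → a = 0 := by
    intro k
    induction k with
    | zero => intro a ha; simpa using ha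
    | succ k ih =>
      intro a ha
      rw [pow_succ, mul_smul] at ha
      exact hreg _ (ih _ ha)
  have main : ∀ k : ℕ, ∀ a, ∃ b, δ a = π ^ (k + 1) • b := by
    intro k
    induction k with
    | zero => simpa using hδ
    | succ k ih =>
      intro a
      have hj : ∀ (j : ℕ) (a : A), ∃ b, (δ ^ j) a = π ^ (j * (k + 1)) • b := by
        intro j
        induction j with
        | zero => intro a; exact ⟨a, by simp⟩
        | succ j ihj =>
          intro a
          obtain ⟨b, hb⟩ := ihj a
          obtain ⟨c, hc⟩ := ih b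
          exact ⟨c, by rw [pow_succ', Module.End.mul_apply, hb, map_smul, hc, smul_smul, ← pow_add, add_one_mul]⟩
      have hsum : (∑ j ∈ Finset.range q, ((q.choose (j + 1)) : R) • (δ ^ (j + 1)) a) = 0 := by
        have h := congrArg (fun e : Module.End R A => e a) hqδ
        simp only [(Commute.one_right δ).add_pow, one_pow, _root_.mul_one, LinearMap.sum_apply] at h
        rw [Finset.sum_range_succ'] at h
        simp only [pow_zero, Nat.choose_zero_right, Nat.cast_one, _root_.one_mul, Module.End.one_apply,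
          add_eq_right] at h
        refine Eq.trans (Finset.sum_congr rfl fun j _ => ?_) h
        rw [Module.End.mul_apply, Module.End.natCast_apply, map_nsmul, Nat.cast_smul_eq_nsmul]
      have hmem : ∀ j ∈ (Finset.range q).erase 0,
          ∃ b, ((q.choose (j + 1)) : R) • (δ ^ (j + 1)) a = π ^ (v + (k + 2)) • b := by
        intro j hjq
        obtain ⟨hj0, hjq⟩ := Finset.mem_erase.mp hjq
        rw [Finset.mem_range] at hjq
        obtain ⟨b, hb⟩ := hj (j + 1) a
        rw [hb]
        rcases Nat.eq_or_lt_of_le (Nat.succ_le_of_lt hjq) with hlast | hlt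
        · obtain ⟨d, hd⟩ := Nat.exists_eq_add_of_le (show v + (k + 2) ≤ (j + 1) * (k + 1) by
            rw [show j + 1 = q from hlast]; nlinarith)
          refine ⟨((q.choose (j + 1)) : R) • π ^ d • b, ?_⟩
          rw [hd, pow_add, mul_smul, smul_comm]
        · obtain ⟨d, hd⟩ := Nat.exists_eq_add_of_le (show k + 2 ≤ (j + 1) * (k + 1) by
            have : 2 ≤ j + 1 := by omega
            nlinarith)
          obtain ⟨c, hc⟩ := hq.dvd_choose_self (Nat.succ_ne_zero j) hlt
          refine ⟨((w : R) * c) • π ^ d • b, ?_⟩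
          rw [hc, Nat.cast_mul, hqv, hd, smul_smul, smul_smul, smul_smul]
          congr 1
          ring
      choose! B hB using hmem
      have h0 : 0 ∈ Finset.range q := Finset.mem_range.mpr hq.pos
      rw [← Finset.add_sum_erase _ _ h0, Finset.sum_congr rfl hB, ← Finset.smul_sum] at hsum
      simp only [zero_add, pow_one, Nat.choose_one_right] at hsum
      set S := ∑ j ∈ (Finset.range q).erase 0, B j
      refine ⟨((-↑w⁻¹ : R)) • S, ?_⟩
      rw [← sub_eq_zero]
      refine hregk v _ ?_
      have := congrArg (fun z => ((↑w⁻¹ : R)) • z) hsum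
      simp only [smul_add, smul_zero, smul_smul, hqv, ← _root_.mul_assoc, Units.inv_mul, _root_.one_mul] at this
      rw [smul_sub, smul_smul, smul_smul, sub_eq_add_neg, ← neg_smul]
      refine Eq.trans (congrArg (π ^ v • δ a + ·) (congrArg (· • S) ?_)) this
      rw [pow_add π v (k + 2), show k + 1 + 1 = k + 2 from rfl]
      ring
  refine LinearMap.ext fun a => hsep _ fun k => ?_
  cases k with
  | zero => exact ⟨δ a, by simp⟩
  | succ k => exact main k a

theorem exists_local_lift' {X : Scheme.{u}} {A : CommRingCat.{u}} [IsLocalRing A] (c : Spec A ⟶ X)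
    {x : X} (hx : c (closedPoint A) = x) :
    ∃ h : X.presheaf.stalk x ⟶ A, IsLocalHom h.hom ∧ Spec.map h ≫ X.fromSpecStalk x = c := by
  subst hx
  exact ⟨Scheme.stalkClosedPointTo c, inferInstance, Scheme.Spec_stalkClosedPointTo_fromSpecStalk c⟩

variable {R : Type u} [CommRing R] [IsDomain R] [IsDiscreteValuationRing R]
  {N : Over (Spec (CommRingCat.of R))} [GrpObj N] [Flat N.hom] [LocallyOfFiniteType N.hom]

theorem residue_comp_eq (y : 𝟙_ (Over (Spec (CommRingCat.of R))) ⟶ N)
    (hred : y.left (closedPoint R) = (η[N]).left (closedPoint R)) :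
    Spec.map (CommRingCat.ofHom (residue R)) ≫ y.left = Spec.map (CommRingCat.ofHom (residue R)) ≫ (η[N]).left := by
  let e := (η[N]).left (closedPoint R)
  let A := N.left.presheaf.stalk e
  let a : CommRingCat.of R ⟶ A := Spec.preimage (N.left.fromSpecStalk e ≫ N.hom)
  have ha : Spec.map a = N.left.fromSpecStalk e ≫ N.hom := Spec.map_preimage _
  obtain ⟨ε, hεl, hε⟩ := exists_local_lift' (A := CommRingCat.of R) (η[N]).left (x := e) rfl
  obtain ⟨s, hsl, hs⟩ := exists_local_lift' (A := CommRingCat.of R) y.left (x := e) hred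
  have hsec : ∀ (t : A ⟶ CommRingCat.of R) (z : 𝟙_ (Over (Spec (CommRingCat.of R))) ⟶ N),
      Spec.map t ≫ N.left.fromSpecStalk e = z.left → a ≫ t = 𝟙 _ := fun t z hz => Spec.map_injective (by
    rw [Spec.map_comp, Spec.map_id, ha, ← Category.assoc, hz]
    exact Over.w z)
  let ρ : CommRingCat.of R ⟶ CommRingCat.of (ResidueField R) := CommRingCat.ofHom (residue R)
  have hρ : s ≫ ρ = ε ≫ ρ := by
    refine CommRingCat.hom_ext (RingHom.ext fun z => ?_)
    show residue R (s z) = residue R (ε z)
    have hz : z - a (ε z) ∈ maximalIdeal A := fun hu => by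
      have h0 : ε (z - a (ε z)) = 0 := by
        rw [map_sub, ← CommRingCat.comp_apply, hsec ε _ hε, CommRingCat.id_apply, sub_self]
      exact not_isUnit_zero (h0 ▸ hu.map ε.hom)
    have h1 : residue R (s (z - a (ε z))) = 0 :=
      (residue_eq_zero_iff _).mpr (map_mem_nonunits_iff s.hom _ |>.mpr hz)
    rwa [map_sub, ← CommRingCat.comp_apply a s, hsec s _ hs, CommRingCat.id_apply, map_sub, sub_eq_zero] at h1
  show Spec.map ρ ≫ y.left = Spec.map ρ ≫ (η[N]).left
  rw [← hs, ← hε, ← Category.assoc, ← Category.assoc, ← Spec.map_comp, ← Spec.map_comp, hρ]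

/-- A section of prime order with small ramification reducing to the unit is trivial. -/
theorem eq_one_of_pow_prime_eq_one (y : 𝟙_ (Over (Spec (CommRingCat.of R))) ⟶ N) (q : ℕ) (hq : q.Prime)
    (hy : y ^ q = 1) (hred : y.left (closedPoint R) = (η[N]).left (closedPoint R))
    (hv : (q : R) ∉ maximalIdeal R ^ (q - 1)) : y = 1 := by
  haveI : IsNoetherianRing R := inferInstance
  haveI : IsLocallyNoetherian N.left := LocallyOfFiniteType.isLocallyNoetherian N.hom
  let e := (η[N]).left (closedPoint R)
  let A := N.left.presheaf.stalk e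
  let a : CommRingCat.of R ⟶ A := Spec.preimage (N.left.fromSpecStalk e ≫ N.hom)
  have ha : Spec.map a = N.left.fromSpecStalk e ≫ N.hom := Spec.map_preimage _
  obtain ⟨ε, hεl, hε⟩ := exists_local_lift' (A := CommRingCat.of R) (η[N]).left (x := e) rfl
  obtain ⟨s, hsl, hs⟩ := exists_local_lift' (A := CommRingCat.of R) y.left (x := e) hred
  have hsec : ∀ (t : A ⟶ CommRingCat.of R) (z : 𝟙_ (Over (Spec (CommRingCat.of R))) ⟶ N),
      Spec.map t ≫ N.left.fromSpecStalk e = z.left → a ≫ t = 𝟙 _ := fun t z hz => Spec.map_injective (by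
    rw [Spec.map_comp, Spec.map_id, ha, ← Category.assoc, hz]
    exact Over.w z)
  -- the two sections agree modulo the maximal ideal
  let ρ : CommRingCat.of R ⟶ CommRingCat.of (ResidueField R) := CommRingCat.ofHom (residue R)
  have hcp : Spec.map ρ ≫ y.left = Spec.map ρ ≫ (η[N]).left := residue_comp_eq y hred
  -- translation by `y` on the local ring
  let τ : N ⟶ N := 𝟙 N * (toUnit N ≫ y)
  have hητ : (η[N] : 𝟙_ _ ⟶ N) ≫ τ = y := by
    rw [MonObj.comp_mul, Category.comp_id, ← Category.assoc, toUnit_unique (η[N] ≫ toUnit N) (𝟙 _),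
      Category.id_comp, MonObj.one_eq_one, _root_.one_mul]
  have hτe : τ.left e = e := by
    show ((η[N]).left ≫ τ.left) (closedPoint R) = e
    rw [← Over.comp_left, hητ]
    exact hred
  obtain ⟨T, hTl, hT⟩ := exists_local_lift' (A := A) (N.left.fromSpecStalk e ≫ τ.left) (x := e) (by
    rw [Scheme.Hom.comp_apply, Scheme.fromSpecStalk_closedPoint, hτe])
  have hTa : a ≫ T = a := Spec.map_injective (by
    rw [Spec.map_comp, ha, ← Category.assoc, hT, Category.assoc, Over.w])
  let τpow : ℕ → (N ⟶ N) := fun i => 𝟙 N * (toUnit N ≫ y ^ i)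
  have hτpow : ∀ i, τpow i ≫ τ = τpow (i + 1) := fun i => by
    simp only [τ, τpow, MonObj.comp_mul, Category.comp_id, ← Category.assoc, comp_toUnit, pow_succ, _root_.mul_assoc]
  have hTi : ∀ i : ℕ, Spec.map (CommRingCat.ofHom (T.hom ^ i : A →+* A)) ≫ N.left.fromSpecStalk e =
      N.left.fromSpecStalk e ≫ (τpow i).left := by
    intro i
    induction i with
    | zero =>
      simp only [τpow, pow_zero, MonObj.comp_one, _root_.mul_one, Over.id_left, Category.comp_id]
      exact (congrArg (fun q => q ≫ N.left.fromSpecStalk e) (Spec.map_id A)).trans (Category.id_comp _)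
    | succ i ih =>
      rw [← hτpow, Over.comp_left, ← Category.assoc, ← ih, Category.assoc, ← hT, ← Category.assoc,
        ← Spec.map_comp]
      rfl
  have hTq : T.hom ^ q = 1 := by
    have h := hTi q
    simp only [τpow, hy, MonObj.comp_one, _root_.mul_one, Over.id_left, Category.comp_id] at h
    have h' : CommRingCat.ofHom (T.hom ^ q : A →+* A) = 𝟙 A := Spec.map_injective (by
      rw [← cancel_mono (N.left.fromSpecStalk e)]
      exact h.trans ((congrArg (· ≫ N.left.fromSpecStalk e) (Spec.map_id A)).trans (Category.id_comp _)).symm)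
    exact congrArg CommRingCat.Hom.hom h'
  -- `T` is the identity modulo `π`
  obtain ⟨π, hπ⟩ := IsDiscreteValuationRing.exists_irreducible R
  have hm : maximalIdeal R = Ideal.span {π} := hπ.maximalIdeal_eq
  have hπA : a π ∈ maximalIdeal A := fun hu => by
    have h1 := hu.map ε.hom
    rw [show ε.hom (a π) = (a ≫ ε) π from rfl, hsec ε _ hε] at h1
    exact hπ.not_isUnit h1
  let I : Ideal A := Ideal.span {a π}
  haveI : Nontrivial (A ⧸ I) := Ideal.Quotient.nontrivial_iff.mpr
    ((Ideal.span_singleton_le_iff_mem _).mpr hπA |>.trans_lt (lt_top_iff_ne_top.mpr (maximalIdeal.isMaximal A).ne_top)).ne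
  let c : A ⟶ CommRingCat.of (A ⧸ I) := CommRingCat.ofHom (Ideal.Quotient.mk I)
  let ψ : CommRingCat.of (ResidueField R) ⟶ CommRingCat.of (A ⧸ I) :=
    CommRingCat.ofHom (Ideal.Quotient.lift (maximalIdeal R) ((Ideal.Quotient.mk I).comp a.hom) fun r hr => by
      rw [hm, Ideal.mem_span_singleton'] at hr
      obtain ⟨b, rfl⟩ := hr
      exact Ideal.Quotient.eq_zero_iff_mem.mpr (by rw [map_mul]; exact I.mul_mem_left _ (Ideal.mem_span_singleton_self _)))
  have hψ : ρ ≫ ψ = a ≫ c := rfl
  let cO : Over.mk (Spec.map (a ≫ c)) ⟶ N := Over.homMk (Spec.map c ≫ N.left.fromSpecStalk e) (by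
    show (Spec.map c ≫ N.left.fromSpecStalk e) ≫ N.hom = Spec.map (a ≫ c)
    rw [Category.assoc, ← ha, Spec.map_comp])
  have hcy : cO ≫ toUnit N ≫ y = 1 := by
    rw [← Category.assoc, comp_toUnit]
    refine Over.OverMorphism.ext ?_
    show Spec.map (a ≫ c) ≫ y.left = Spec.map (a ≫ c) ≫ (η[N]).left
    rw [← hψ, Spec.map_comp, Category.assoc, Category.assoc, hcp]
  have hmod : T ≫ c = c := by
    refine Spec.map_injective ?_
    rw [← cancel_mono (N.left.fromSpecStalk e), Spec.map_comp, Category.assoc, hT]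
    have h1 : cO ≫ τ = cO := by
      simp only [τ, MonObj.comp_mul, Category.comp_id, hcy, _root_.mul_one]
    exact (Category.assoc _ _ _).symm.trans (congrArg Over.Hom.left h1)
  -- the algebra
  letI : Algebra R A := a.hom.toAlgebra
  let Tl : Module.End R A :=
    { toFun := T.hom
      map_add' := map_add T.hom
      map_smul' := fun r z => by
        simp only [RingHom.id_apply, Algebra.smul_def, map_mul]
        congr 1
        exact congrArg (fun q => q r) hTa }
  haveI : Module.Flat R A := by
    haveI := GrothLib.FFDesc.flat_fromSpecStalk' N.left e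
    have h : Flat (Spec.map a) := by rw [ha]; infer_instance
    exact (HasRingHomProperty.Spec_iff (P := @Flat)).mp h
  have hreg : ∀ z : A, π • z = 0 → z = 0 := fun z hz => by
    have : z ∈ Submodule.torsion R A :=
      ⟨⟨π, mem_nonZeroDivisors_of_ne_zero hπ.ne_zero⟩, hz⟩
    rwa [Module.Flat.torsion_eq_bot] at this
  have hsep : ∀ z : A, (∀ k : ℕ, ∃ b, z = π ^ k • b) → z = 0 := fun z hz => by
    have h : z ∈ ⨅ k : ℕ, (maximalIdeal A) ^ k := Ideal.mem_iInf.mpr fun k => by
      obtain ⟨b, rfl⟩ := hz k
      rw [Algebra.smul_def, map_pow]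
      exact Ideal.mul_mem_right _ _ (Ideal.pow_mem_pow hπA k)
    rwa [Ideal.iInf_pow_eq_bot_of_isLocalRing _ (maximalIdeal.isMaximal A).ne_top] at h
  have hTlpow : ∀ (i : ℕ) (z : A), (Tl ^ i) z = (T.hom ^ i) z := by
    intro i
    induction i with
    | zero => intro z; rfl
    | succ i ih => intro z; rw [pow_succ', Module.End.mul_apply, ih, pow_succ']; rfl
  obtain ⟨v, w, hvw⟩ := IsDiscreteValuationRing.eq_unit_mul_pow_irreducible
    (fun h0 : (q : R) = 0 => hv (h0 ▸ zero_mem _)) hπ
  have hvq : v + 2 ≤ q := by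
    by_contra hlt
    refine hv ?_
    rw [hvw, hm, Ideal.span_singleton_pow, Ideal.mem_span_singleton]
    exact dvd_mul_of_dvd_right (pow_dvd_pow π (by omega)) _
  have hδ0 := add_one_pow_eq_one π hreg hsep (Tl - 1) (fun z => by
      have hz : T z - z ∈ I := (Ideal.Quotient.mk_eq_mk_iff_sub_mem _ _).mp (congrArg (fun q => q z) hmod)
      obtain ⟨b, hb⟩ := Ideal.mem_span_singleton'.mp hz
      exact ⟨b, by rw [Algebra.smul_def]; exact hb.symm.trans (mul_comm _ _)⟩)
    q hq (by rw [sub_add_cancel]; exact LinearMap.ext fun z => (hTlpow q z).trans (congrArg (fun f : A →+* A => f z) hTq))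
    w v hvw hvq
  have hTid : T = 𝟙 A := CommRingCat.hom_ext (RingHom.ext fun z => sub_eq_zero.mp (LinearMap.congr_fun hδ0 z))
  refine hητ.symm.trans ?_
  refine Over.OverMorphism.ext ?_
  show (η[N]).left ≫ τ.left = (1 : 𝟙_ (Over (Spec (CommRingCat.of R))) ⟶ N).left
  rw [← MonObj.one_eq_one, ← hε, Category.assoc, ← hT, hTid, Spec.map_id, Category.id_comp]

/-- The sections reducing to the unit are stable under multiplication. -/
theorem mul_reduces (y z : 𝟙_ (Over (Spec (CommRingCat.of R))) ⟶ N)
    (hy : y.left (closedPoint R) = (η[N]).left (closedPoint R))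
    (hz : z.left (closedPoint R) = (η[N]).left (closedPoint R)) :
    (y * z).left (closedPoint R) = (η[N]).left (closedPoint R) := by
  let cO : Over.mk (Spec.map (CommRingCat.ofHom (residue R))) ⟶ 𝟙_ (Over (Spec (CommRingCat.of R))) :=
    Over.homMk (Spec.map (CommRingCat.ofHom (residue R))) (Category.comp_id _)
  have h : ∀ w : 𝟙_ (Over (Spec (CommRingCat.of R))) ⟶ N, w.left (closedPoint R) = (η[N]).left (closedPoint R) →
      cO ≫ w = 1 := fun w hw => by
    rw [← MonObj.comp_one cO, ← MonObj.one_eq_one]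
    exact Over.OverMorphism.ext (residue_comp_eq w hw)
  have h2 : cO ≫ (y * z) = cO ≫ η[N] := by
    rw [MonObj.one_eq_one, MonObj.comp_one, MonObj.comp_mul, h y hy, h z hz, _root_.mul_one]
  have h3 := congrArg (fun q : Over.mk (Spec.map (CommRingCat.ofHom (residue R))) ⟶ N => q.left (closedPoint (ResidueField R))) h2
  simp only [Over.comp_left, Scheme.Hom.comp_apply] at h3
  rwa [show cO.left (closedPoint (ResidueField R)) = closedPoint R from IsLocalRing.comap_closedPoint (residue R)] at h3

/-- Torsion sections with small ramification inject into the special fibre. -/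
theorem eq_one_of_pow_eq_one_of_val_lt [IsCommMonObj N] (p : ℕ) [Fact p.Prime] [CharP (ResidueField R) p]
    (hv : (p : R) ∉ maximalIdeal R ^ (p - 1)) (n : ℕ) (hn : 0 < n)
    (x : 𝟙_ (Over (Spec (CommRingCat.of R))) ⟶ N) (hx : x ^ n = 1)
    (hred : x.left (closedPoint R) = (η[N]).left (closedPoint R)) :
    x = 1 := by
  induction n using Nat.strong_induction_on generalizing x with
  | _ n ih =>
    rcases eq_or_ne n 1 with rfl | h1
    · simpa using hx
    obtain ⟨q, hq, d, rfl⟩ := Nat.exists_prime_and_dvd h1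
    have hd : 0 < d := Nat.pos_of_mul_pos_left hn
    have hy : (x ^ d) ^ q = 1 := by rw [← pow_mul, mul_comm d q]; exact hx
    have hyred : ∀ i : ℕ, (x ^ i).left (closedPoint R) = (η[N]).left (closedPoint R) := by
      intro i
      induction i with
      | zero => rw [pow_zero, ← MonObj.one_eq_one]
      | succ i ihi => rw [pow_succ]; exact mul_reduces _ _ ihi hred
    have hvq : (q : R) ∉ maximalIdeal R ^ (q - 1) := by
      rcases eq_or_ne q p with rfl | hqp
      · exact hv
      intro hmem
      have h0 : (q : ResidueField R) = 0 := by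
        rw [← map_natCast (residue R), residue_eq_zero_iff]
        exact Ideal.pow_le_self (by have := hq.two_le; omega) hmem
      rw [CharP.cast_eq_zero_iff (ResidueField R) p, Nat.prime_dvd_prime_iff_eq Fact.out hq] at h0
      exact hqp h0.symm
    exact ih d (lt_mul_of_one_lt_left hd hq.one_lt) hd x
      (eq_one_of_pow_prime_eq_one _ q hq hy (hyred d) hvq) hred

end GrothLib.AbMul
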