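import Groth.Agent.Lib.AbMul.EtalePow

/-!
# Torsion sections of smooth group schemes over local bases
-/

universe u

open CategoryTheory Limits AlgebraicGeometry IsLocalRing
open MonoidalCategory CartesianMonoidalCategory MonObj

namespace GrothLib.AbMul

/-- Sections of an unramified morphism over a local scheme agreeing at the closed point agree. -/
theorem eq_of_residue {R : Type u} [CommRing R] [IsLocalRing R] {E : Scheme.{u}}
    (g : E ⟶ Spec (CommRingCat.of R)) [FormallyUnramified g] [LocallyOfFiniteType g]
    (u v : Spec (CommRingCat.of R) ⟶ E) (hu : u ≫ g = 𝟙 _) (hv : v ≫ g = 𝟙 _)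
    (h : Spec.map (CommRingCat.ofHom (residue R)) ≫ u = Spec.map (CommRingCat.ofHom (residue R)) ≫ v) :
    u = v := by
  let p := pullback.lift u v (hu.trans hv.symm)
  let o : Spec (CommRingCat.of (ResidueField R)) := closedPoint _
  let i := Spec.map (CommRingCat.ofHom (residue R))
  have hi : i o = closedPoint R := comap_closedPoint (residue R)
  have hq : (i ≫ u) ≫ pullback.diagonal g = i ≫ p := by
    apply pullback.hom_ext
    · rw [Category.assoc, pullback.diagonal_fst, Category.comp_id]
      exact congrArg (i ≫ ·) (pullback.lift_fst u v (hu.trans hv.symm)).symm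
    · rw [Category.assoc, pullback.diagonal_snd, Category.comp_id]
      exact h.trans (congrArg (i ≫ ·) (pullback.lift_snd u v (hu.trans hv.symm)).symm)
  have hp : Set.range p ⊆ Set.range (pullback.diagonal g) := by
    rintro _ ⟨z, rfl⟩
    have hmem : closedPoint R ∈ p ⁻¹ᵁ (pullback.diagonal g).opensRange := by
      show p (closedPoint R) ∈ (pullback.diagonal g).opensRange
      rw [← hi, ← Scheme.Hom.comp_apply, ← hq]
      exact ⟨(i ≫ u) o, rfl⟩
    exact (IsLocalRing.closed_point_mem_iff.mp hmem).ge (Set.mem_univ z)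
  let l := IsOpenImmersion.lift (pullback.diagonal g) p hp
  have hl : l ≫ pullback.diagonal g = p := IsOpenImmersion.lift_fac _ _ _
  have h1 := congrArg (· ≫ pullback.fst g g) hl
  have h2 := congrArg (· ≫ pullback.snd g g) hl
  simp only [p, Category.assoc, pullback.diagonal_fst, pullback.diagonal_snd, Category.comp_id,
    pullback.lift_fst, pullback.lift_snd] at h1 h2
  exact h1.symm.trans h2

/-- Being killed by `N` in terms of the power map. -/
theorem pow_eq_one_iff_left {S : Scheme.{u}} {G T : Over S} [GrpObj G] (N : ℕ) (a : T ⟶ G) :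
    a ^ N = 1 ↔ a.left ≫ (𝟙 G ^ (N : ℤ)).left = T.hom ≫ η[G].left := by
  have h : a ≫ (𝟙 G ^ (N : ℤ)) = a ^ N := by
    rw [GrpObj.comp_zpow, Category.comp_id, zpow_natCast]
  have h1 : (1 : T ⟶ G).left = T.hom ≫ η[G].left := by
    rw [Hom.one_def, Over.comp_left]
    rfl
  constructor
  · intro ha
    rw [← h1, ← ha, ← h]
    rfl
  · intro ha
    rw [← h]
    ext : 1
    rw [Over.comp_left, h1]
    exact ha

theorem isUnit_intCast_gamma {R : Type u} [CommRing R] {N : ℕ} (hN : IsUnit (N : R)) :
    IsUnit ((N : ℤ) : Γ(Spec (CommRingCat.of R), ⊤)) := by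
  have := hN.map (Scheme.ΓSpecIso (CommRingCat.of R)).inv.hom
  rw [map_natCast] at this
  simpa using this

/-- Torsion sections of order prime to the residue characteristic are determined by their
reduction. -/
theorem eq_of_pow_eq_one_of_residue {R : Type u} [CommRing R] [IsLocalRing R]
    {G : Over (Spec (CommRingCat.of R))} [GrpObj G] [IsCommMonObj G] [Smooth G.hom]
    {N : ℕ} (hN : IsUnit (N : R)) (σ σ' : Over.mk (𝟙 (Spec (CommRingCat.of R))) ⟶ G)
    (hσ : σ ^ N = 1) (hσ' : σ' ^ N = 1)
    (h : Spec.map (CommRingCat.ofHom (residue R)) ≫ σ.left =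
      Spec.map (CommRingCat.ofHom (residue R)) ≫ σ'.left) : σ = σ' := by
  let f := (𝟙 G ^ (N : ℤ)).left
  haveI : Etale f := etale_pow_relative G _ (isUnit_intCast_gamma hN)
  have h1 : σ.left ≫ f = 𝟙 _ ≫ η[G].left := (pow_eq_one_iff_left N σ).mp hσ
  have h2 : σ'.left ≫ f = 𝟙 _ ≫ η[G].left := (pow_eq_one_iff_left N σ').mp hσ'
  let u := pullback.lift (f := f) (g := η[G].left) σ.left (𝟙 _) h1
  let v := pullback.lift (f := f) (g := η[G].left) σ'.left (𝟙 _) h2
  have huv : u = v := eq_of_residue (pullback.snd f η[G].left) u v (pullback.lift_snd _ _ _)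
    (pullback.lift_snd _ _ _) (by
      apply pullback.hom_ext
      · simp only [u, v, Category.assoc, pullback.lift_fst]
        exact h
      · simp only [u, v, Category.assoc, pullback.lift_snd])
  have := congrArg (· ≫ pullback.fst f η[G].left) huv
  simp only [u, v, pullback.lift_fst] at this
  exact Over.OverMorphism.ext this

end GrothLib.AbMul
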