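import Mathlib
import Groth.Agent.Lib.RegLoc.Basic

/-!
# Regularity of the coordinate ring of a Weierstrass equation over a discrete valuation ring
-/

namespace GrothLib.AbMul

open Polynomial IsLocalRing
open scoped Polynomial.Bivariate

universe u

variable {R : Type u} [CommRing R]

/-- A hypersurface in a regular ring is regular where the equation is nonzero modulo the
saturation of the square of the prime. -/
theorem isRegularLocalRing_hypersurface {S T : Type u} [CommRing S] [CommRing T] [IsRegularRing S]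
    (φ : S →+* T) (hφ : Function.Surjective φ) (f : S) (hker : RingHom.ker φ = Ideal.span {f})
    (P : Ideal T) [P.IsPrime] (hf : ∀ s ∉ P.comap φ, s * f ∉ (P.comap φ) ^ 2) :
    IsRegularLocalRing (Localization.AtPrime P) := by
  set M := P.comap φ
  let g : Localization.AtPrime M →+* Localization.AtPrime P := Localization.localRingHom M P φ rfl
  have hg : Function.Surjective g := fun z ↦ by
    obtain ⟨a, ⟨s, hs⟩, rfl⟩ := IsLocalization.exists_mk'_eq P.primeCompl z
    obtain ⟨a, rfl⟩ := hφ a
    obtain ⟨s, rfl⟩ := hφ s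
    exact ⟨IsLocalization.mk' _ a (⟨s, hs⟩ : M.primeCompl), Localization.localRingHom_mk' _ _ _ rfl _ _⟩
  set f' := algebraMap S (Localization.AtPrime M) f
  have hfM : f ∈ M := by
    show φ f ∈ P
    rw [(RingHom.mem_ker.mp (hker ▸ Ideal.mem_span_singleton_self f : f ∈ RingHom.ker φ))]
    exact zero_mem _
  have hgker : RingHom.ker g = Ideal.span {f'} := by
    refine le_antisymm (fun z hz ↦ ?_) ?_
    · obtain ⟨a, ⟨s, hs⟩, rfl⟩ := IsLocalization.exists_mk'_eq M.primeCompl z
      rw [RingHom.mem_ker, Localization.localRingHom_mk', IsLocalization.mk'_eq_zero_iff] at hz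
      obtain ⟨⟨t, ht⟩, hta⟩ := hz
      obtain ⟨t, rfl⟩ := hφ t
      have : t * a ∈ RingHom.ker φ := by rw [RingHom.mem_ker, map_mul]; exact hta
      rw [hker, Ideal.mem_span_singleton'] at this
      obtain ⟨c, hc⟩ := this
      rw [Ideal.mem_span_singleton]
      refine ⟨IsLocalization.mk' _ c (⟨t * s, M.primeCompl.mul_mem ht hs⟩ : M.primeCompl), ?_⟩
      rw [IsLocalization.mul_mk'_eq_mk'_of_mul, IsLocalization.mk'_eq_iff_eq]
      congr 1
      linear_combination (-(s : S)) * hc
    · rw [Ideal.span_le, Set.singleton_subset_iff, SetLike.mem_coe, RingHom.mem_ker,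
        Localization.localRingHom_to_map,
        RingHom.mem_ker.mp (hker ▸ Ideal.mem_span_singleton_self f : f ∈ RingHom.ker φ), map_zero]
  have hreg : IsRegularLocalRing (Localization.AtPrime M) := inferInstance
  have hm : f' ∈ maximalIdeal (Localization.AtPrime M) :=
    (IsLocalization.AtPrime.to_map_mem_maximal_iff _ M f).mpr hfM
  have hm2 : f' ∉ maximalIdeal (Localization.AtPrime M) ^ 2 := by
    rw [← Localization.AtPrime.map_eq_maximalIdeal, ← Ideal.map_pow]
    intro h
    obtain ⟨s, hs, hsf⟩ := (IsLocalization.algebraMap_mem_map_algebraMap_iff M.primeCompl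
      (Localization.AtPrime M) (M ^ 2) f).mp h
    exact hf s hs hsf
  have := (GrothLib.RegLoc.quotient_isRegularLocalRing hm hm2).1
  exact IsRegularLocalRing.of_ringEquiv ((Ideal.quotEquivOfEq hgker.symm).trans
    (RingHom.quotientKerEquivOfSurjective hg))

variable (W : WeierstrassCurve.Affine R)

/-- The evaluation at the origin sends the Weierstrass polynomial to `-a₆`. -/
theorem evalEval_zero_polynomial : W.polynomial.evalEval 0 0 = -W.a₆ := by
  rw [W.evalEval_polynomial]; ring

/-- A bivariate polynomial is congruent to its value at the origin modulo `(X, Y)`. -/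
theorem sub_evalEval_zero_mem (p : R[X][Y]) :
    p - C (C (p.evalEval 0 0)) ∈ Ideal.span {C X, Y} := by
  obtain ⟨p₁, hp₁⟩ := X_dvd_iff.mpr (show (p - C (p.coeff 0)).coeff 0 = 0 by simp)
  obtain ⟨q₁, hq₁⟩ := X_dvd_iff.mpr
    (show (p.coeff 0 - C ((p.coeff 0).coeff 0)).coeff 0 = 0 by simp)
  have h : p.evalEval 0 0 = (p.coeff 0).coeff 0 := by
    simp [Polynomial.evalEval, coeff_zero_eq_eval_zero]
  rw [h, show p - C (C ((p.coeff 0).coeff 0)) = C X * C q₁ + Y * p₁ by
    rw [← C_mul, ← hq₁, C_sub, ← hp₁]; ring]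
  exact add_mem (Ideal.mul_mem_right _ _ (Ideal.subset_span (by simp)))
    (Ideal.mul_mem_right _ _ (Ideal.subset_span (by simp)))

/-- The coordinate ring is regular at the origin of the special fibre when `a₆ ∉ m²`. -/
theorem saturation_origin [IsLocalRing R] (h6' : W.a₆ ∉ maximalIdeal R ^ 2)
    (M : Ideal R[X][Y]) [M.IsPrime] (hm : ∀ r ∈ maximalIdeal R, C (C r) ∈ M)
    (hX : C X ∈ M) (hY : (Y : R[X][Y]) ∈ M) :
    ∀ s ∉ M, s * W.polynomial ∉ M ^ 2 := by
  intro s hs h
  let E := Polynomial.evalEvalRingHom (0 : R) 0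
  have hXY : Ideal.span {C X, (Y : R[X][Y])} ≤ M :=
    Ideal.span_le.mpr (Set.insert_subset hX (Set.singleton_subset_iff.mpr hY))
  have hmap : M.map E ≤ maximalIdeal R := by
    rw [Ideal.map_le_iff_le_comap]
    intro p hp
    by_contra hu
    have hu : IsUnit (p.evalEval 0 0) := by simpa [E, Polynomial.evalEval] using hu
    have : C (C (p.evalEval 0 0)) ∈ M := by
      simpa using M.sub_mem hp (hXY (sub_evalEval_zero_mem p))
    exact Ideal.IsPrime.ne_top ‹_› (Ideal.eq_top_of_isUnit_mem _ this
      ((hu.map C).map C))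
  have h' : E (s * W.polynomial) ∈ maximalIdeal R ^ 2 :=
    (Ideal.pow_right_mono hmap 2) (by rw [← Ideal.map_pow]; exact Ideal.mem_map_of_mem E h)
  have hu : IsUnit (E s) := by
    by_contra hu
    apply hs
    have := sub_evalEval_zero_mem s
    have h2 : C (C (s.evalEval 0 0)) ∈ M := hm _ (show E s ∈ maximalIdeal R from hu)
    simpa using M.add_mem (hXY this) h2
  rw [map_mul, Ideal.unit_mul_mem_iff_mem _ hu] at h'
  simp only [E, coe_evalEvalRingHom, evalEval_zero_polynomial, neg_mem_iff] at h'
  exact h6' h'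

open DualNumber TrivSqZeroExt in
/-- The partial derivatives obstruct membership of the Weierstrass polynomial in the saturated
square of a prime. -/
theorem derivatives_eq_zero {K : Type u} [CommRing K] [IsDomain K] (q : R[X][Y] →+* K)
    (s : R[X][Y]) (hs : q s ≠ 0) (h : s * W.polynomial ∈ RingHom.ker q ^ 2) :
    let x := q (C X); let y := q Y; let a : R → K := fun r ↦ q (C (C r))
    a W.a₁ * y - (3 * x ^ 2 + 2 * a W.a₂ * x + a W.a₄) = 0 ∧
      2 * y + a W.a₁ * x + a W.a₃ = 0 := by
  have key (φ : R[X][Y] →+* K[ε]) (hφ : ∀ p, fst (φ p) = q p) : snd (φ W.polynomial) = 0 := by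
    have hsq : ∀ p ∈ RingHom.ker q ^ 2, φ p = 0 := by
      intro p hp
      rw [pow_two] at hp
      induction hp using Submodule.mul_induction_on' with
      | mem_mul_mem a ha b hb =>
        rw [map_mul]
        refine TrivSqZeroExt.ext ?_ ?_ <;>
          simp [hφ, RingHom.mem_ker.mp ha, RingHom.mem_ker.mp hb]
      | add x _ y _ hx hy => rw [map_add, hx, hy, add_zero]
    have h1 := congrArg snd (hsq _ h)
    rw [map_mul] at h1
    have hker : q W.polynomial = 0 := by
      have := RingHom.mem_ker.mp (Ideal.pow_le_self two_ne_zero h)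
      rw [map_mul] at this
      exact (mul_eq_zero.mp this).resolve_left hs
    simpa [hφ, hker, hs] using h1
  refine ⟨?_, ?_⟩
  · let φ : R[X][Y] →+* K[ε] := eval₂RingHom
      (eval₂RingHom ((inlHom K K).comp (q.comp (C.comp C))) (inl (q (C X)) + ε)) (inl (q Y))
    have hφ : ∀ p, fst (φ p) = q p := fun p ↦ RingHom.congr_fun
      (show (TrivSqZeroExt.fstHom K K K).toRingHom.comp φ = q from by
        refine Polynomial.ringHom_ext' (Polynomial.ringHom_ext (fun a ↦ ?_) ?_) ?_ <;> simp [φ]) p
    have := key φ hφ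
    simp [φ, WeierstrassCurve.Affine.polynomial, pow_succ, two_mul] at this
    linear_combination this
  · let φ : R[X][Y] →+* K[ε] := eval₂RingHom
      (eval₂RingHom ((inlHom K K).comp (q.comp (C.comp C))) (inl (q (C X)))) (inl (q Y) + ε)
    have hφ : ∀ p, fst (φ p) = q p := fun p ↦ RingHom.congr_fun
      (show (TrivSqZeroExt.fstHom K K K).toRingHom.comp φ = q from by
        refine Polynomial.ringHom_ext' (Polynomial.ringHom_ext (fun a ↦ ?_) ?_) ?_ <;> simp [φ]) p
    have := key φ hφ
    simp [φ, WeierstrassCurve.Affine.polynomial, pow_succ, two_mul] at this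
    linear_combination this

end GrothLib.AbMul
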